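import Cfsg.Agent.H267.Pw.SpFix
import Cfsg.Agent.H267.Pw.SpGen
import Cfsg.Agent.H323.Pw.Odd

/-!
# `F₄(3)` (S2465), block E: the coset step over `Sp₆(3)`, abstract form (helper150)

`f : H →* Sp₆(3)` surjective with extraspecial kernel of order `3¹⁵` and centre `⟨z⟩`, `kap : ker f → V₁₄` the quotient map.

* `card_fixX_le` : `|FixX g| ≤ 3 |{φ | M φ = φ}|` for `Rel (f g) M`; `card_fixX_le_finrank`;
* `step` : `f g ≠ ±1`, and `g` conjugate to `g z` or `|FixX g| ≤ 3⁹`: `g` is a product of two elements of order prime to `6`.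
-/

set_option autoImplicit false

namespace Cfsg.Agent.H150.F43.Step

open Cfsg.Agent.H700.F43 Cfsg.Agent.H267.SpFx Cfsg.Agent.H323.Pw Cfsg.Agent.H78.Pw Cfsg.Agent.H843.Ore Matrix

universe u

/-- the quotient map `ker f → V₁₄` -/
structure Kap {H : Type u} [Group H] (f : H →* Sp) (z : H) (kap : H → V14) : Prop where
  mul : ∀ x ∈ f.ker, ∀ y ∈ f.ker, kap (x * y) = kap x + kap y
  ker : ∀ x ∈ f.ker, kap x = 0 ↔ x ∈ Subgroup.zpowers z
  act : ∀ g : H, ∀ x ∈ f.ker, ∀ X : V14 →ₗ[F3] V14, Rel (f g) X → kap (g * x * g⁻¹) = X (kap x)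

variable {H : Type u} [Group H] {f : H →* Sp} {z : H} {kap : H → V14}

theorem Kap.one (hk : Kap f z kap) : kap 1 = 0 := by
  have h := hk.mul 1 (one_mem _) 1 (one_mem _)
  rw [one_mul] at h
  exact left_eq_add.1 h

theorem Kap.inv (hk : Kap f z kap) {x : H} (hx : x ∈ f.ker) : kap x⁻¹ = -kap x := by
  have h := hk.mul x hx x⁻¹ (inv_mem hx)
  rw [mul_inv_cancel, hk.one] at h
  exact (neg_eq_of_add_eq_zero_right h.symm).symm

theorem conj_mem (f : H →* Sp) {x : H} (hx : x ∈ f.ker) (g : H) : g * x * g⁻¹ ∈ f.ker := by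
  rw [MonoidHom.mem_ker] at hx ⊢
  rw [map_mul, map_mul, hx, mul_one, map_inv, mul_inv_cancel]

theorem Kap.fix_iff (hk : Kap f z kap) {g x : H} (hx : x ∈ f.ker) {M : V14 →ₗ[F3] V14} (hM : Rel (f g) M) :
    g * x * g⁻¹ * x⁻¹ ∈ Subgroup.zpowers z ↔ M (kap x) = kap x := by
  rw [← hk.ker _ (mul_mem (conj_mem f hx g) (inv_mem hx)), hk.mul _ (conj_mem f hx g) _ (inv_mem hx), hk.inv hx,
    hk.act g x hx M hM, add_neg_eq_zero]

theorem card_fixX_le (hk : Kap f z kap) (hz : orderOf z = 3) {g : H} {M : V14 →ₗ[F3] V14} (hM : Rel (f g) M) :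
    Nat.card (FixX f.ker z g) ≤ 3 * Nat.card {φ : V14 // M φ = φ} := by
  classical
  have hfz : Finite (Subgroup.zpowers z) := Nat.finite_of_card_ne_zero (by rw [Nat.card_zpowers, hz]; norm_num)
  have hcz : Nat.card (Subgroup.zpowers z) = 3 := by rw [Nat.card_zpowers, hz]
  suffices hle : Nat.card (FixX f.ker z g) ≤ Nat.card ({φ : V14 // M φ = φ} × Subgroup.zpowers z) by
    rwa [Nat.card_prod, hcz, mul_comm] at hle
  have hsec : ∀ φ : V14, ∃ r : H, (∃ x ∈ f.ker, kap x = φ) → r ∈ f.ker ∧ kap r = φ := by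
    intro φ
    by_cases h : ∃ x ∈ f.ker, kap x = φ
    · obtain ⟨x, hx, e⟩ := h
      exact ⟨x, fun _ => ⟨hx, e⟩⟩
    · exact ⟨1, fun h' => absurd h' h⟩
  choose r hr using hsec
  refine Nat.card_le_card_of_injective (fun x : FixX f.ker z g => ((⟨kap x.1, (hk.fix_iff x.1.2 hM).1 x.2⟩,
    ⟨(r (kap x.1))⁻¹ * x.1, by
      obtain ⟨h1, h2⟩ := hr (kap x.1) ⟨x.1, x.1.2, rfl⟩
      rw [← hk.ker _ (mul_mem (inv_mem h1) x.1.2), hk.mul _ (inv_mem h1) _ x.1.2, hk.inv h1, h2, neg_add_cancel]⟩) :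
      {φ : V14 // M φ = φ} × Subgroup.zpowers z)) ?_
  intro x y e
  simp only [Prod.mk.injEq, Subtype.mk.injEq] at e
  obtain ⟨e1, e2⟩ := e
  rw [e1] at e2
  exact Subtype.ext (Subtype.ext (mul_left_cancel e2))

theorem card_fixX_le_finrank (hk : Kap f z kap) (hz : orderOf z = 3) {g : H} {M : V14 →ₗ[F3] V14}
    (hM : Rel (f g) M) : Nat.card (FixX f.ker z g) ≤ 3 * 3 ^ Module.finrank F3 (LinearMap.ker (M - 1)) := by
  have h := card_fixX_le hk hz hM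
  have h2 : Nat.card {φ : V14 // M φ = φ} = Nat.card (LinearMap.ker (M - 1)) := by
    refine Nat.card_congr (Equiv.subtypeEquivRight fun φ => ?_)
    rw [LinearMap.mem_ker, LinearMap.sub_apply, sub_eq_zero]
    rfl
  have h3 : Nat.card (LinearMap.ker (M - 1)) = Nat.card F3 ^ Module.finrank F3 (LinearMap.ker (M - 1)) :=
    Module.natCard_eq_pow_finrank
  rw [Nat.card_zmod] at h3
  rw [h2, h3] at h
  exact h

/-- conjugates of `d(c)`, `c` of order `13`: at most `9` fixed vectors -/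
theorem card_fix_le {B : Sp} {c : SpecialLinearGroup (Fin 3) F3} (hc : Cfsg.Agent.H267.Pw.Fpf c.1) {M : V14 →ₗ[F3] V14}
    (hM : Rel (B * dd c * B⁻¹) M) : Nat.card {φ : V14 // M φ = φ} ≤ 9 := by
  obtain ⟨N, hN⟩ := exists_rel B
  obtain ⟨N', hN'⟩ := exists_rel B⁻¹
  have h9 : Nat.card (F3 × F3) = 9 := by rw [Nat.card_prod, Nat.card_zmod]
  rw [← h9]
  refine Nat.card_le_card_of_injective (fun φ : {φ : V14 // M φ = φ} => ((N' φ.1) 0, (N' φ.1) 13)) ?_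
  intro φ ψ e
  simp only [Prod.mk.injEq] at e
  obtain ⟨g1, k1⟩ := conj_fix hN hN' (rel_dd c) hM φ.2
  obtain ⟨g2, k2⟩ := conj_fix hN hN' (rel_dd c) hM ψ.2
  have e1 := dL_fix hc (congrArg Subtype.val (mul_inv_cancel c)) g1
  have e2 := dL_fix hc (congrArg Subtype.val (mul_inv_cancel c)) g2
  apply Subtype.ext
  rw [k1, k2, e1, e2, e.1, e.2]

/-- **STEP.** -/
theorem step (hs : Function.Surjective f) (h : XS 3 f.ker z) (hc : Nat.card f.ker = 3 ^ 15) (hk : Kap f z kap)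
    {g : H} (h1 : f g ≠ 1) (h2 : f g ≠ ng)
    (hor : (∃ y ∈ f.ker, y * g * y⁻¹ = g * z) ∨ Nat.card (FixX f.ker z g) ≤ 3 ^ 9) : Pr 6 g := by
  have : Fact (Nat.Prime 3) := ⟨Nat.prime_three⟩
  have hfin : Finite f.ker := Nat.finite_of_card_ne_zero (by rw [hc]; norm_num)
  obtain ⟨g₀, c₁, c₂, X, Y, hX, hY, f1, f2, hX0, hY0, hXY, he⟩ := frame h1 h2
  obtain ⟨a, ha⟩ := hs (g₀⁻¹ * (vv X hX * dd c₁ * (vv X hX)⁻¹) * g₀)
  obtain ⟨b, hb⟩ := hs (g₀⁻¹ * (uu Y hY * dd c₂ * (uu Y hY)⁻¹) * g₀)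
  have hab : f g = f a * f b := by
    rw [ha, hb]
    have : f g = g₀⁻¹ * (g₀ * f g * g₀⁻¹) * g₀ := by group
    rw [this, he]
    group
  have ha' : f a = (g₀⁻¹ * vv X hX) * dd c₁ * (g₀⁻¹ * vv X hX)⁻¹ := by rw [ha]; group
  have hb' : f b = (g₀⁻¹ * uu Y hY) * dd c₂ * (g₀⁻¹ * uu Y hY)⁻¹ := by rw [hb]; group
  have co : ∀ {A : Sp}, A ^ 13 = 1 → (orderOf A).Coprime 6 := fun h13 =>
    Nat.Coprime.coprime_dvd_left (orderOf_dvd_of_pow_eq_one h13) (by norm_num)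
  have oa : (orderOf (f a)).Coprime 6 := co (by rw [ha']; exact conj_pow' _ _ _ (dd_pow13 f1))
  have ob : (orderOf (f b)).Coprime 6 := co (by rw [hb']; exact conj_pow' _ _ _ (dd_pow13 f2))
  obtain ⟨Ma, hMa⟩ := exists_rel (f a)
  obtain ⟨Mb, hMb⟩ := exists_rel (f b)
  have ca : Nat.card (FixX f.ker z a) ≤ 3 * 9 :=
    (card_fixX_le hk h.ord hMa).trans (Nat.mul_le_mul_left _ (card_fix_le f1 (by rw [← ha']; exact hMa)))
  have cb : Nat.card (FixX f.ker z b) ≤ 3 * 9 :=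
    (card_fixX_le hk h.ord hMb).trans (Nat.mul_le_mul_left _ (card_fix_le f2 (by rw [← hb']; exact hMb)))
  have hcov : Cov a b f.ker (Subgroup.zpowers z) := by
    refine h.cov_of_inf fun x hx k1 k2 => ?_
    rw [hk.fix_iff hx hMa] at k1
    rw [hk.fix_iff hx hMb] at k2
    rw [← hk.ker x hx]
    obtain ⟨N, hN⟩ := exists_rel g₀
    obtain ⟨N', hN'⟩ := exists_rel g₀⁻¹
    have n1 : N * N' = 1 := rel_unique (by have := hN.mul hN'; rwa [mul_inv_cancel] at this) Rel.one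
    have n2 : N' * N = 1 := rel_unique (by have := hN'.mul hN; rwa [inv_mul_cancel] at this) Rel.one
    have m2 : ∀ v, N' (N v) = v := fun v => LinearMap.congr_fun n2 v
    have r1 : Rel (vv X hX * dd c₁ * (vv X hX)⁻¹) (N * Ma * N') := by
      have := (hN.mul hMa).mul hN'
      rw [ha] at this
      convert this using 1
      group
    have r2 : Rel (uu Y hY * dd c₂ * (uu Y hY)⁻¹) (N * Mb * N') := by
      have := (hN.mul hMb).mul hN'
      rw [hb] at this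
      convert this using 1
      group
    have q1 : (N * Ma * N') (N (kap x)) = N (kap x) := by
      change N (Ma (N' (N (kap x)))) = _
      rw [m2, k1]
    have q2 : (N * Mb * N') (N (kap x)) = N (kap x) := by
      change N (Mb (N' (N (kap x)))) = _
      rw [m2, k2]
    have h0 := no_common hX hY f1 f2 hX0 hY0 hXY r1 r2 q1 q2
    rw [← m2 (kap x), h0, map_zero]
  rcases hor with hor | hor
  · exact Pr.of_xs_conj f h (by norm_num) hcov hor hab oa ob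
  · refine Pr.of_xs (by norm_num) f h (by norm_num) hcov ?_ hab oa ob
    have hq : g⁻¹ * (a * b) ∈ f.ker := by
      rw [MonoidHom.mem_ker, map_mul, map_inv, map_mul, hab, inv_mul_cancel]
    have e1 : FixX f.ker z (a * b) = FixX f.ker z g := by
      have e2 : a * b = (g * (g⁻¹ * (a * b)) * g⁻¹) * g := by group
      rw [e2, fixX_mul h (h.conj_mem hq g)]
    rw [e1, hc]
    calc Nat.card (FixX f.ker z a) * Nat.card (FixX f.ker z b) * Nat.card (FixX f.ker z g)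
        ≤ (3 * 9) * (3 * 9) * 3 ^ 9 := Nat.mul_le_mul (Nat.mul_le_mul ca cb) hor
      _ = 3 ^ 15 := by norm_num

/-! ### The form of helper700 -/

theorem Kap.mk' (h : XS 3 f.ker z) (hk : ∀ x ∈ f.ker, ∀ y ∈ f.ker, kap (x * y) = kap x + kap y)
    (hkz : kap z = 0) (hk0 : ∀ x ∈ f.ker, kap x = 0 → x ∈ Subgroup.zpowers z)
    (hact : ∀ g : H, ∃ X : V14 →ₗ[F3] V14, (∀ v ∈ f.ker, kap (g * v * g⁻¹) = X (kap v)) ∧ Rel (f g) X) :
    Kap f z kap := by
  have h1 : kap 1 = 0 := by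
    have h := hk 1 (one_mem _) 1 (one_mem _)
    rw [one_mul] at h
    exact left_eq_add.1 h
  have hi : ∀ x ∈ f.ker, kap x⁻¹ = -kap x := fun x hx => by
    have h := hk x hx x⁻¹ (inv_mem hx)
    rw [mul_inv_cancel, h1] at h
    exact (neg_eq_of_add_eq_zero_right h.symm).symm
  refine ⟨hk, fun x hx => ⟨hk0 x hx, fun hx' => ?_⟩, fun g x hx X hX => ?_⟩
  · let S : Subgroup H := {
      carrier := {x | x ∈ f.ker ∧ kap x = 0}
      mul_mem' := fun {a b} ha hb => ⟨mul_mem ha.1 hb.1, by rw [hk a ha.1 b hb.1, ha.2, hb.2, add_zero]⟩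
      one_mem' := ⟨one_mem _, h1⟩
      inv_mem' := fun {a} ha => ⟨inv_mem ha.1, by rw [hi a ha.1, ha.2, neg_zero]⟩ }
    have : Subgroup.zpowers z ≤ S := by
      rw [Subgroup.zpowers_le]
      exact ⟨h.mem, hkz⟩
    exact (this hx').2
  · obtain ⟨X', h2, h3⟩ := hact g
    rw [rel_unique hX h3]
    exact h2 x hx

theorem step_abs (hs : Function.Surjective f) (hX : XS 3 f.ker z) (hcard : Nat.card f.ker = 3 ^ 15)
    (hk : ∀ x ∈ f.ker, ∀ y ∈ f.ker, kap (x * y) = kap x + kap y)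
    (hkz : kap z = 0) (hk0 : ∀ x ∈ f.ker, kap x = 0 → x ∈ Subgroup.zpowers z)
    (hact : ∀ g : H, ∃ X : V14 →ₗ[F3] V14, (∀ v ∈ f.ker, kap (g * v * g⁻¹) = X (kap v)) ∧ Rel (f g) X)
    {g : H} (h1 : f g ≠ 1) (h2 : f g ≠ ng)
    (h : (∃ y ∈ f.ker, y * g * y⁻¹ = g * z) ∨ Nat.card (FixX f.ker z g) ≤ 3 ^ 9) : Pr 6 g :=
  step hs hX hcard (Kap.mk' hX hk hkz hk0 hact) h1 h2 h

theorem fix_abs (hX : XS 3 f.ker z) (hk : ∀ x ∈ f.ker, ∀ y ∈ f.ker, kap (x * y) = kap x + kap y)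
    (hkz : kap z = 0) (hk0 : ∀ x ∈ f.ker, kap x = 0 → x ∈ Subgroup.zpowers z)
    (hact : ∀ g : H, ∃ X : V14 →ₗ[F3] V14, (∀ v ∈ f.ker, kap (g * v * g⁻¹) = X (kap v)) ∧ Rel (f g) X)
    {g : H} {X : V14 →ₗ[F3] V14} (hr : Rel (f g) X) :
    Nat.card (FixX f.ker z g) ≤ 3 * 3 ^ Module.finrank F3 (LinearMap.ker (X - 1)) :=
  card_fixX_le_finrank (Kap.mk' hX hk hkz hk0 hact) hX.ord hr

end Cfsg.Agent.H150.F43.Step
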