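import Cfsg.Agent.H557.InvF4
import Cfsg.Agent.H194.Pw.Six
import Cfsg.Agent.H374.Ore.Sl3
import Cfsg.Agent.H86.Pair
import Cfsg.Agent.H934.IdxExc

/-!
# `F₄(3)` (S2465): the dichotomy for the involution of type `C₃ A₁` (helper150)

* `mem_of_index` : `H ≤ C`, `|C| < 39 |H|`, `x₀ ∈ C` of order `3` with no conjugate in `H`; then `H` contains all
  elements `a ∈ C` with `a ^ 13 = 1` commuting with `x₀`;
* `dich_A` : if `g` commutes with `t₂` and `t₂ ∈ ⟨g⟩`, then `g` commutes with a long root element or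
  `39 |C(g)| ≤ |C(t₂)|`.
-/

set_option autoImplicit false
set_option linter.unusedSectionVars false

namespace Cfsg.Agent.H150.F43

open CoxeterSystem Cfsg.Agent.ChevalleyStructure.CoxeterGeom Cfsg.Agent.Tits.Roots Cfsg.Agent.Tits.Core
  Cfsg.Agent.Nodes.Reps Cfsg.Agent.Nodes.BNOf Cfsg.Agent.Nodes.RGDLib Cfsg.Agent.Nodes.Bruhat
  Cfsg.Agent.Nodes.OppDec Cfsg.Agent.Nodes.LeviDec Cfsg.Agent.Nodes.KindChev Cfsg.Agent.Nodes.ChevCls
  Cfsg.Agent.OddHalf.NI.ModelChev Cfsg.Agent.Nodes.StabComb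
  Cfsg.Agent.H162.GaussDec Cfsg.Agent.H162.GaussLevi Cfsg.Agent.H162.GaussSL Cfsg.Agent.H162.GaussReg
  Cfsg.Agent.H162.GaussPQ
  Cfsg.Agent.H928.Ore.Frame
open Cfsg.Lie Cfsg.Agent.ChevalleyStructure Cfsg.Agent.ChevalleyStructure.Elts
  Cfsg.Agent.ChevalleyStructure.RootVec Cfsg.Agent.ChevalleyStructure.NPerm
  Cfsg.Agent.ChevalleyStructure.CoxeterGeomTypes Cfsg.Agent.Nodes.RGDChev Cfsg.Agent.KFacts.RgdChevCoord
open Cfsg.Agent.TitsThree.KExcRT Cfsg.Agent.AGraded
open Cfsg.Agent.H150.E6T (Cm commute_hom le_of_gen xc_commute)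
open Cfsg.Agent.H557.InvF4 Cfsg.Agent.H557.SignTorus Cfsg.Agent.H557.OrbF4
open scoped MatrixGroups

universe u

/-! ### The abstract lemma -/

section

variable {G : Type*} [Group G] [Finite G]

theorem mem_of_index {H C : Subgroup G} (hHC : H ≤ C) (hidx : Nat.card C < 39 * Nat.card H) {x₀ : G} (hx0 : x₀ ∈ C)
    (h3 : orderOf x₀ = 3) (hno : x₀ ∉ H) {a : G} (ha : a ∈ C) (h13 : a ^ 13 = 1) (hc : Commute a x₀) : a ∈ H := by
  by_contra haH
  have ha1 : a ≠ 1 := fun h => haH (h ▸ H.one_mem)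
  have hp13 : Fact (Nat.Prime 13) := ⟨by norm_num⟩
  have hoa : orderOf a = 13 := orderOf_eq_prime h13 ha1
  have hy : orderOf (a * x₀) = 39 := by
    rw [hc.orderOf_mul_eq_mul_orderOf_of_coprime (by rw [hoa, h3]; norm_num), hoa, h3]
  have hx3 : x₀ ^ 3 = 1 := by rw [← h3, pow_orderOf_eq_one]
  have hdisj : H ⊓ Subgroup.zpowers (a * x₀) = ⊥ := by
    rw [eq_bot_iff]
    rintro w ⟨hw, k, rfl⟩
    simp only at hw
    rw [Subgroup.mem_bot]
    have e1 : ((a * x₀) ^ k) ^ (13 : ℕ) = x₀ ^ (13 * k) := by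
      rw [← zpow_natCast, ← zpow_mul, hc.mul_zpow, mul_comm k, zpow_mul a]
      have : a ^ ((13 : ℕ) : ℤ) = 1 := by rw [zpow_natCast, h13]
      rw [this, one_zpow, one_mul]
      rfl
    have e2 : ((a * x₀) ^ k) ^ (3 : ℕ) = a ^ (3 * k) := by
      rw [← zpow_natCast, ← zpow_mul, hc.mul_zpow, mul_comm k, zpow_mul x₀]
      have : x₀ ^ ((3 : ℕ) : ℤ) = 1 := by rw [zpow_natCast, hx3]
      rw [this, one_zpow, mul_one]
      rfl
    have h1 : x₀ ^ (13 * k) ∈ H := by rw [← e1]; exact H.pow_mem hw 13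
    have h2 : a ^ (3 * k) ∈ H := by rw [← e2]; exact H.pow_mem hw 3
    have hk3 : (3 : ℤ) ∣ k := by
      by_contra hk
      have hcop : IsCoprime (13 * k) (3 : ℤ) := by
        have h5 : IsCoprime k (3 : ℤ) := ((Int.prime_three.coprime_iff_not_dvd).2 hk).symm
        exact IsCoprime.mul_left (by norm_num) h5
      obtain ⟨u, v, huv⟩ := hcop
      apply hno
      have e3 : x₀ = (x₀ ^ (13 * k)) ^ u := by
        rw [← zpow_mul]
        have e4 : 13 * k * u = 1 - 3 * v := by linarith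
        rw [e4, zpow_sub, zpow_one, zpow_mul]
        have : x₀ ^ (3 : ℤ) = 1 := by exact_mod_cast hx3
        rw [this, one_zpow, inv_one, mul_one]
      rw [e3]
      exact H.zpow_mem h1 u
    have hk13 : (13 : ℤ) ∣ k := by
      by_contra hk
      have hcop : IsCoprime (3 * k) (13 : ℤ) := by
        have h5 : IsCoprime k (13 : ℤ) := by
          have hp : Prime (13 : ℤ) := by
            have : Nat.Prime 13 := by norm_num
            exact_mod_cast Nat.prime_iff_prime_int.1 this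
          exact ((hp.coprime_iff_not_dvd).2 hk).symm
        exact IsCoprime.mul_left (by norm_num) h5
      obtain ⟨u, v, huv⟩ := hcop
      apply haH
      have e3 : a = (a ^ (3 * k)) ^ u := by
        rw [← zpow_mul]
        have e4 : 3 * k * u = 1 - 13 * v := by linarith
        rw [e4, zpow_sub, zpow_one, zpow_mul]
        have : a ^ (13 : ℤ) = 1 := by exact_mod_cast h13
        rw [this, one_zpow, inv_one, mul_one]
      rw [e3]
      exact H.zpow_mem h2 u
    have hk39 : (39 : ℤ) ∣ k := by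
      have h5 : IsCoprime (3 : ℤ) 13 := by norm_num
      have := h5.mul_dvd hk3 hk13
      norm_num at this
      exact this
    obtain ⟨m, rfl⟩ := hk39
    change (a * x₀) ^ (39 * m) = 1
    rw [zpow_mul]
    have : (a * x₀) ^ (39 : ℤ) = 1 := by
      have h5 : (a * x₀) ^ 39 = 1 := by rw [← hy, pow_orderOf_eq_one]
      exact_mod_cast h5
    rw [this, one_zpow]
  have hcard : Nat.card H * 39 ≤ Nat.card C := by
    rw [← hy, ← Nat.card_zpowers, ← Nat.card_prod]
    have hyC : a * x₀ ∈ C := C.mul_mem ha hx0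
    refine Nat.card_le_card_of_injective
      (fun z : H × Subgroup.zpowers (a * x₀) => (⟨(z.1 : G) * z.2, C.mul_mem (hHC z.1.2)
        ((Subgroup.zpowers_le.2 hyC) z.2.2)⟩ : C)) ?_
    rintro ⟨⟨b, hb⟩, ⟨c, hc'⟩⟩ ⟨⟨b', hb'⟩, ⟨c', hc''⟩⟩ e
    have e1 : b * c = b' * c' := congrArg Subtype.val e
    have e2 : b'⁻¹ * b = c' * c⁻¹ := by
      rw [inv_mul_eq_iff_eq_mul, ← mul_assoc, ← e1, mul_inv_cancel_right]
    have e3 : b'⁻¹ * b ∈ H ⊓ Subgroup.zpowers (a * x₀) :=
      ⟨H.mul_mem (H.inv_mem hb') hb, by rw [e2]; exact Subgroup.mul_mem _ hc'' (Subgroup.inv_mem _ hc')⟩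
    rw [hdisj, Subgroup.mem_bot] at e3
    have e4 : b = b' := by rw [inv_mul_eq_one] at e3; exact e3.symm
    subst e4
    have e5 : c = c' := mul_left_cancel e1
    subst e5
    rfl
  omega

end

/-! ### Tables -/

/-- the roots of the first short `A₂` -/
def ra : Fin 3 → Fin 3 → ℕ := ![![0, 27, 34], ![20, 0, 33], ![13, 14, 0]]

/-- the roots of the second short `A₂` -/
def rb : Fin 3 → Fin 3 → ℕ := ![![0, 28, 35], ![19, 0, 33], ![12, 14, 0]]

def s1 : Fin 3 → Fin 3 → ℤ := fun _ _ => 1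

theorem rta : RTa chevF4 ra ∧ RTb chevF4 ra s1 ∧ RTc chevF4 ra ∧ RTd s1 ∧ (∀ i j, s1 j i = s1 i j) ∧
    ∀ i j, i ≠ j → ra j i = chevF4.neg (ra i j) := by decide +kernel

theorem rtb : RTa chevF4 rb ∧ RTb chevF4 rb s1 ∧ RTc chevF4 rb ∧ RTd s1 ∧ (∀ i j, s1 j i = s1 i j) ∧
    ∀ i j, i ≠ j → rb j i = chevF4.neg (rb i j) := by decide +kernel

theorem cma : ∀ i j : Fin 3, i ≠ j → Cm chevF4 (ra i j) 47 ∧ Cm chevF4 (rb i j) 47 := by decide +kernel

theorem lv : (∀ i j : Fin 3, i ≠ j → vec chevF4 4 (ra i j) 3 = 0 ∧ vec chevF4 4 (rb i j) 3 = 0) ∧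
    vec chevF4 4 47 3 = 2 := by decide +kernel

theorem ct : chevF4.commTerms 27 28 = [(30, 2, 1, 1)] := by decide +kernel

theorem longs : Cfsg.Agent.H86.Lev.longF4 30 = true ∧ Cfsg.Agent.H86.Par.top chevF4 = 47 ∧ chevF4.cartan 3 47 = 1 := by
  decide +kernel

/-! ### The homomorphisms -/

theorem hF : IsType chevF4 4 CoxeterMatrix.F₄ := Cfsg.Agent.Nodes.KindF.isType

/-- the involution of type `C₃ A₁` -/
noncomputable abbrev t2 (K : Type u) [Field K] : ↥(chevF4.group K) := th hF (sg K 4 n_TabC3A1)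

section

variable {K : Type u} [Field K]

theorem commute_t2 (h2 : (2 : K) ≠ 0) {q : ℕ} (hq : q < chevF4.nroots) (he : Even (vec chevF4 4 q 3)) (c : K) :
    Commute (t2 K) (xc hF (vec chevF4 4 q) c) := by
  have h1 := (ch_sg hF Cfsg.Agent.H557.InvF4.cs hcm (K := K) (isRoot_vec hF _ hq) h2 n0_TabC3A1).2 he
  have h3 := (act hF hq (Cfsg.Agent.H557.Toral.th_mem hF (sg K 4 n_TabC3A1))).2 c
  rw [h1, one_mul] at h3
  exact mul_inv_eq_iff_eq_mul.1 h3

theorem exists_phia : ∃ φ : SL(3, K) →* ↥(chevF4.group K), ∀ a b (hab : a ≠ b) c,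
    φ (Matrix.SpecialLinearGroup.transvection hab c) = xc hF (vec chevF4 4 (ra a b)) ((s1 a b : K) * c) :=
  Cfsg.Agent.H194.Pw.exists_hom_S hF (n := 0) rta.1 rta.2.1 rta.2.2.1 rta.2.2.2.1 rta.2.2.2.2.1 rta.2.2.2.2.2

theorem exists_phib : ∃ φ : SL(3, K) →* ↥(chevF4.group K), ∀ a b (hab : a ≠ b) c,
    φ (Matrix.SpecialLinearGroup.transvection hab c) = xc hF (vec chevF4 4 (rb a b)) ((s1 a b : K) * c) :=
  Cfsg.Agent.H194.Pw.exists_hom_S hF (n := 0) rtb.1 rtb.2.1 rtb.2.2.1 rtb.2.2.2.1 rtb.2.2.2.2.1 rtb.2.2.2.2.2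

/-- the root elements of a block lie in `H` if its irreducible elements do -/
theorem tv_mem [Finite K] (hK : Nat.card K = 3) {H : Subgroup ↥(chevF4.group K)}
    {φ : SL(3, K) →* ↥(chevF4.group K)}
    (h : ∀ X : SL(3, K), Irreducible X.1.charpoly → φ X ∈ H) {a b : Fin 3} (hab : a < b) (c : K) :
    φ (Matrix.SpecialLinearGroup.transvection hab.ne c) ∈ H := by
  have hU : Matrix.SpecialLinearGroup.transvection hab.ne c ∈ UT 3 K := by
    rw [mem_UT]
    constructor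
    · intro i j hij
      change (1 + Matrix.single a b c : Matrix (Fin 3) (Fin 3) K) i j = 0
      rw [Matrix.add_apply, Matrix.one_apply_ne (ne_of_gt hij), zero_add, Matrix.single_apply_of_ne]
      rintro ⟨rfl, rfl⟩
      exact absurd hij (not_lt.2 hab.le)
    · intro i
      change (1 + Matrix.single a b c : Matrix (Fin 3) (Fin 3) K) i i = 1
      rw [Matrix.add_apply, Matrix.one_apply_eq, Matrix.single_apply_of_ne, add_zero]
      rintro ⟨rfl, rfl⟩
      exact absurd rfl hab.ne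
  obtain ⟨A, B, e, hA, hB, -⟩ := Cfsg.Agent.H374.Ore.Sl3.m3 (.inr hK) (one_mem (LT 3 K)) hU
  rw [one_mul] at e
  rw [e, map_mul]
  exact H.mul_mem (h A hA) (h B hB)

theorem commute_x47 {φ : SL(3, K) →* ↥(chevF4.group K)} {r : Fin 3 → Fin 3 → ℕ} (hr : ∀ i j, i ≠ j → Cm chevF4 (r i j) 47)
    (hφ : ∀ a b (hab : a ≠ b) c,
      φ (Matrix.SpecialLinearGroup.transvection hab c) = xc hF (vec chevF4 4 (r a b)) ((s1 a b : K) * c))
    (X : SL(3, K)) (c : K) : Commute (φ X) (xc hF (vec chevF4 4 47) c) := by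
  have h := le_of_gen φ (Subgroup.centralizer {xc hF (vec chevF4 4 47) c}) (fun a b hab d => ?_) X
  · exact Subgroup.mem_centralizer_singleton_iff.1 h
  · rw [hφ, Subgroup.mem_centralizer_singleton_iff]
    obtain ⟨h1, h2, h3, h4, h5⟩ := hr a b hab
    exact (xc_commute hF h1 h2 h3 h4 h5 _ c).eq

theorem mem_cent {φ : SL(3, K) →* ↥(chevF4.group K)} (h2 : (2 : K) ≠ 0) {r : Fin 3 → Fin 3 → ℕ}
    (hr : ∀ i j, i ≠ j → r i j < chevF4.nroots) (hr0 : ∀ i j, i ≠ j → vec chevF4 4 (r i j) 3 = 0)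
    (hφ : ∀ a b (hab : a ≠ b) c,
      φ (Matrix.SpecialLinearGroup.transvection hab c) = xc hF (vec chevF4 4 (r a b)) ((s1 a b : K) * c))
    (X : SL(3, K)) : φ X ∈ Subgroup.centralizer {t2 K} := by
  refine le_of_gen φ (Subgroup.centralizer {t2 K}) (fun a b hab d => ?_) X
  rw [hφ a b hab, Subgroup.mem_centralizer_singleton_iff]
  have h0 : Even (vec chevF4 4 (r a b) 3) := by rw [hr0 a b hab]; exact Even.zero
  exact (commute_t2 h2 (hr a b hab) h0 _).symm.eq

/-- **The dichotomy.** -/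
theorem dich_A [Finite K] (hK : Nat.card K = 3) {g : ↥(chevF4.group K)} (ht : t2 K ∈ Subgroup.zpowers g) :
    (∃ x, Commute g (x * xc hF (vec chevF4 4 47) (1 : K) * x⁻¹)) ∨
      39 * Nat.card ↥(Subgroup.centralizer {g}) ≤ Nat.card ↥(Subgroup.centralizer {t2 K}) := by
  have : Finite ↥(chevF4.group K) := inferInstance
  have := Fintype.ofFinite K
  have : Fact (Nat.Prime 3) := ⟨Nat.prime_three⟩
  have hch : CharP K 3 := charP_of_card_eq_prime (by rw [← Nat.card_eq_fintype_card, hK])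
  have h2 : (2 : K) ≠ 0 := by
    intro h
    have h3 : 3 ∣ 2 := (CharP.cast_eq_zero_iff K 3 2).1 (by exact_mod_cast h)
    omega
  by_contra hcon
  push Not at hcon
  obtain ⟨hno, hidx⟩ := hcon
  obtain ⟨H, hH⟩ : ∃ H, H = Subgroup.centralizer {g} := ⟨_, rfl⟩
  obtain ⟨C, hC⟩ : ∃ C, C = Subgroup.centralizer {t2 K} := ⟨_, rfl⟩
  have hHC : H ≤ C := by
    rw [hH, hC]
    intro y hy
    rw [Subgroup.mem_centralizer_singleton_iff] at hy ⊢
    obtain ⟨k, hk⟩ := ht
    have hk : g ^ k = t2 K := hk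
    rw [← hk]
    exact (Commute.zpow_right hy k : y * g ^ k = g ^ k * y)
  have hno' : ∀ x, x * xc hF (vec chevF4 4 47) (1 : K) * x⁻¹ ∉ H := by
    intro x hx
    rw [hH, Subgroup.mem_centralizer_singleton_iff] at hx
    exact hno x (Commute.symm hx)
  rw [← hH, ← hC] at hidx
  have h47 : 47 < chevF4.nroots := by decide
  have hx0 : xc hF (vec chevF4 4 47) (1 : K) ∈ C := by
    rw [hC, Subgroup.mem_centralizer_singleton_iff]
    exact (commute_t2 h2 h47 (by rw [lv.2]; exact even_two) _).symm.eq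
  have h30' : (3 : K) = 0 := by exact_mod_cast CharP.cast_eq_zero K 3
  have hord : orderOf (xc hF (vec chevF4 4 47) (1 : K)) = 3 := by
    refine orderOf_eq_prime ?_ ?_
    · apply Subtype.ext
      rw [Subgroup.coe_pow, coe_xc hF h47, pow_succ, pow_two, xG_add, xG_add, Subgroup.coe_one]
      have : (1 + 1 + 1 : K) = 0 := by rw [← h30']; norm_num
      rw [this, xG_zero]
    · intro h
      have h1 := congrArg Subtype.val h
      rw [coe_xc hF h47, Subgroup.coe_one] at h1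
      exact one_ne_zero ((xG_eq_one_iff hF.inList h47 (1 : K)).1 h1)
  have key : ∀ a ∈ C, a ^ 13 = 1 → Commute a (xc hF (vec chevF4 4 47) (1 : K)) → a ∈ H := fun a ha h13 hc =>
    mem_of_index hHC (by omega) hx0 hord (fun h => hno' 1 (by simpa using h)) ha h13 hc
  obtain ⟨φ, hφ⟩ := exists_phia (K := K)
  obtain ⟨ψ, hψ⟩ := exists_phib (K := K)
  have h13 : ∀ X : SL(3, K), Irreducible X.1.charpoly → X ^ 13 = 1 := by
    intro X hX
    have := Cfsg.Agent.H194.Pw.irr_pow hX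
    rw [hK] at this
    exact this
  have hφH : ∀ X : SL(3, K), Irreducible X.1.charpoly → φ X ∈ H := fun X hX =>
    key _ (by rw [hC]; exact mem_cent h2 rta.1 (fun i j hij => (lv.1 i j hij).1) hφ X)
      (by rw [← map_pow, h13 X hX, map_one]) (commute_x47 (fun i j hij => (cma i j hij).1) hφ X 1)
  have hψH : ∀ X : SL(3, K), Irreducible X.1.charpoly → ψ X ∈ H := fun X hX =>
    key _ (by rw [hC]; exact mem_cent h2 rtb.1 (fun i j hij => (lv.1 i j hij).2) hψ X)
      (by rw [← map_pow, h13 X hX, map_one]) (commute_x47 (fun i j hij => (cma i j hij).2) hψ X 1)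
  have h27 : ∀ c, xc hF (vec chevF4 4 27) c ∈ H := by
    intro c
    have := tv_mem hK hφH (a := 0) (b := 1) (by decide) c
    rw [hφ] at this
    simpa [s1, ra] using this
  have h28 : ∀ c, xc hF (vec chevF4 4 28) c ∈ H := by
    intro c
    have := tv_mem hK hψH (a := 0) (b := 1) (by decide) c
    rw [hψ] at this
    simpa [s1, rb] using this
  have h30 : ∀ c, xc hF (vec chevF4 4 30) c ∈ H := by
    intro c
    have e1 := UnipProd.xG_comm hF.inList (r := 27) (s := 28) (F := K) (by decide) (by decide) (by decide) (by decide) 1 c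
    have e2 : wordG hF.inList (chevF4.commWord K 27 28 1 c) = xG hF.inList 30 c := by
      unfold ChevalleyDatum.commWord
      rw [ct]
      simp only [List.map_cons, List.map_nil, wordG_cons, wordG_nil, mul_one, pow_one]
      congr 1
      push_cast
      linear_combination (-c) * h30'
    rw [e2] at e1
    have e3 : xc hF (vec chevF4 4 28) c * xc hF (vec chevF4 4 27) 1 =
        xc hF (vec chevF4 4 27) 1 * xc hF (vec chevF4 4 28) c * xc hF (vec chevF4 4 30) c := by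
      apply Subtype.ext
      simp only [Subgroup.coe_mul]
      rw [coe_xc hF (by decide), coe_xc hF (by decide), coe_xc hF (by decide)]
      exact e1
    have e4 : xc hF (vec chevF4 4 30) c = (xc hF (vec chevF4 4 27) 1 * xc hF (vec chevF4 4 28) c)⁻¹ *
        (xc hF (vec chevF4 4 28) c * xc hF (vec chevF4 4 27) 1) := by
      rw [e3]; group
    rw [e4]
    exact H.mul_mem (H.inv_mem (H.mul_mem (h27 1) (h28 c))) (H.mul_mem (h28 c) (h27 1))
  obtain ⟨m, hm, t', ht', e⟩ := Cfsg.Agent.H86.Par.long_conj hF.inList (F := K) Cfsg.Agent.H86.Lev.hpF4 (s := 30)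
    (by decide) longs.1 (t := 1) one_ne_zero
  rw [longs.2.1] at e
  have hmG : m ∈ chevF4.group K := monomial_le_group hF.inList K (Cfsg.Agent.H92.ChevCent.NL_le chevF4 hm)
  obtain ⟨y, hy⟩ := isConj_iff.1 (Cfsg.Agent.H934.IdxExc.isConj hF.inList (F := K) (r := 47) (p := 3) h47 (by decide)
    longs.2.2 1 t' one_ne_zero ht')
  refine hno' (⟨m, hmG⟩⁻¹ * y) ?_
  have e5 : (⟨m, hmG⟩ : ↥(chevF4.group K))⁻¹ * y * xc hF (vec chevF4 4 47) (1 : K) * (⟨m, hmG⟩⁻¹ * y)⁻¹ =
      xc hF (vec chevF4 4 30) 1 := by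
    have e6 : xc hF (vec chevF4 4 47) (1 : K) = Cfsg.Agent.H934.IdxExc.xe hF.inList 47 1 :=
      Subtype.ext (coe_xc hF h47 1)
    have e7 : (⟨m, hmG⟩ : ↥(chevF4.group K)) * xc hF (vec chevF4 4 30) 1 * ⟨m, hmG⟩⁻¹ =
        Cfsg.Agent.H934.IdxExc.xe hF.inList 47 t' := by
      apply Subtype.ext
      simp only [Subgroup.coe_mul, Subgroup.coe_inv]
      rw [coe_xc hF (by decide)]
      exact e
    rw [e6]
    calc _ = (⟨m, hmG⟩ : ↥(chevF4.group K))⁻¹ * (y * Cfsg.Agent.H934.IdxExc.xe hF.inList 47 1 * y⁻¹) * ⟨m, hmG⟩ := by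
          group
      _ = _ := by rw [hy, ← e7]; group
  rw [e5]
  exact h30 1

end

end Cfsg.Agent.H150.F43
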