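import Cfsg.Agent.H150.F43.DichA

/-!
# `F₄(3)` (S2465): the dichotomy for the involution of type `C₃ A₁`, with the constant `45` (helper150)

* `nine_dvd_card` : `P` a finite `3`-group acting on `α`, some commutator of `P` without fixed points: `9 ∣ |α|`;
* `nine_dvd` : the same for the cosets of a subgroup;
* `dich_A45` : if `g` commutes with `t₂` and `t₂ ∈ ⟨g⟩`, then `g` commutes with a long root element or
  `45 |C(g)| ≤ |C(t₂)|`.
-/

set_option autoImplicit false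
set_option linter.unusedSectionVars false

namespace Cfsg.Agent.H150.F43

open CoxeterSystem Cfsg.Agent.ChevalleyStructure.CoxeterGeom Cfsg.Agent.Tits.Roots Cfsg.Agent.Tits.Core
  Cfsg.Agent.Nodes.Reps Cfsg.Agent.Nodes.BNOf Cfsg.Agent.Nodes.RGDLib Cfsg.Agent.Nodes.Bruhat
  Cfsg.Agent.Nodes.OppDec Cfsg.Agent.Nodes.LeviDec Cfsg.Agent.Nodes.KindChev Cfsg.Agent.Nodes.ChevCls
  Cfsg.Agent.OddHalf.NI.ModelChev Cfsg.Agent.Nodes.StabComb
  Cfsg.Agent.H162.GaussDec Cfsg.Agent.H162.GaussLevi Cfsg.Agent.H162.GaussSL Cfsg.Agent.H162.GaussReg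
  Cfsg.Agent.H162.GaussPQ
  Cfsg.Agent.H928.Ore.Frame
open Cfsg.Lie Cfsg.Agent.ChevalleyStructure Cfsg.Agent.ChevalleyStructure.Elts
  Cfsg.Agent.ChevalleyStructure.RootVec Cfsg.Agent.ChevalleyStructure.NPerm
  Cfsg.Agent.ChevalleyStructure.CoxeterGeomTypes Cfsg.Agent.Nodes.RGDChev Cfsg.Agent.KFacts.RgdChevCoord
open Cfsg.Agent.TitsThree.KExcRT Cfsg.Agent.AGraded
open Cfsg.Agent.H150.E6T (Cm commute_hom le_of_gen xc_commute)
open Cfsg.Agent.H557.InvF4 Cfsg.Agent.H557.SignTorus Cfsg.Agent.H557.OrbF4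

universe u

section

theorem comm_mem_of_index {P : Type*} [Group P] [Finite P] (hP : IsPGroup 3 P) {S : Subgroup P} (hS : ¬ 9 ∣ S.index)
    (a b : P) : a * b * a⁻¹ * b⁻¹ ∈ S := by
  have : Fact (Nat.Prime 3) := ⟨Nat.prime_three⟩
  obtain ⟨k, hk⟩ := hP.index S
  have hk2 : k < 2 := by
    by_contra h
    push Not at h
    exact hS (by rw [hk]; exact (pow_dvd_pow 3 h))
  interval_cases k
  · rw [pow_zero, Subgroup.index_eq_one] at hk
    rw [hk]; exact Subgroup.mem_top _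
  · rw [pow_one] at hk
    obtain ⟨m, hm⟩ := IsPGroup.iff_card.1 hP
    have hm0 : m ≠ 0 := by
      rintro rfl
      have h1 := S.index_dvd_card
      rw [hm, hk] at h1
      omega
    have hmin : (Nat.card P).minFac = 3 := by rw [hm, Nat.Prime.pow_minFac Nat.prime_three hm0]
    have hn : S.Normal := Subgroup.normal_of_index_eq_minFac_card (by rw [hk, hmin])
    have hc : IsCyclic (P ⧸ S) := isCyclic_of_prime_card (p := 3) (by rw [← Subgroup.index_eq_card, hk])
    rw [← QuotientGroup.eq_one_iff]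
    change (a : P ⧸ S) * b * (a : P ⧸ S)⁻¹ * (b : P ⧸ S)⁻¹ = 1
    have hcm : ∀ x y : P ⧸ S, x * y = y * x := by
      obtain ⟨g, hg⟩ := hc.exists_generator
      intro x y
      obtain ⟨i, rfl⟩ := hg x
      obtain ⟨j, rfl⟩ := hg y
      simp only [← zpow_add, add_comm]
    rw [hcm (a : P ⧸ S) b, mul_inv_cancel_right, mul_inv_cancel]

theorem nine_dvd_card {P α : Type*} [Group P] [Finite P] [Finite α] [MulAction P α] (hP : IsPGroup 3 P) (a b : P)
    (hfix : ∀ x : α, (a * b * a⁻¹ * b⁻¹) • x ≠ x) : 9 ∣ Nat.card α := by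
  classical
  have := Fintype.ofFinite (Quotient (MulAction.orbitRel P α))
  rw [Nat.card_congr (MulAction.selfEquivSigmaOrbits P α), Nat.card_sigma]
  refine Finset.dvd_sum fun ω _ => ?_
  rw [Nat.card_coe_set_eq, ← MulAction.index_stabilizer]
  by_contra h
  exact hfix _ (comm_mem_of_index hP h a b)

theorem nine_dvd {G : Type*} [Group G] [Finite G] {H C P : Subgroup G} (hHC : H ≤ C) (hPC : P ≤ C)
    (hP : IsPGroup 3 P) {a b : G} (ha : a ∈ P) (hb : b ∈ P) (hno : ∀ x : G, x * (a * b * a⁻¹ * b⁻¹) * x⁻¹ ∉ H) :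
    ∃ k, Nat.card C = 9 * k * Nat.card H := by
  let : MulAction P (C ⧸ H.subgroupOf C) := MulAction.compHom _ (Subgroup.inclusion hPC)
  have h9 : 9 ∣ Nat.card (C ⧸ H.subgroupOf C) := by
    refine nine_dvd_card hP (⟨a, ha⟩ : P) ⟨b, hb⟩ ?_
    intro x
    obtain ⟨y, rfl⟩ := QuotientGroup.mk_surjective x
    intro h
    have h1 : ((Subgroup.inclusion hPC (⟨a, ha⟩ * ⟨b, hb⟩ * ⟨a, ha⟩⁻¹ * ⟨b, hb⟩⁻¹) * y : C) : C ⧸ H.subgroupOf C) = y := h
    rw [eq_comm, QuotientGroup.eq, Subgroup.mem_subgroupOf] at h1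
    apply hno (y : G)⁻¹
    rw [inv_inv]
    have h2 : (y : G)⁻¹ * (a * b * a⁻¹ * b⁻¹) * y = (y : G)⁻¹ * (a * b * a⁻¹ * b⁻¹ * y) := by group
    rw [h2]
    exact h1
  obtain ⟨k, hk⟩ := h9
  refine ⟨k, ?_⟩
  have h3 := Subgroup.card_eq_card_quotient_mul_card_subgroup (H.subgroupOf C)
  rw [h3, hk, Nat.card_congr (Subgroup.subgroupOfEquivOfLe hHC).toEquiv]

end

theorem nn : (∀ i, 0 ≤ vec chevF4 4 27 i) ∧ ∀ i, 0 ≤ vec chevF4 4 28 i := by decide +kernel

section

variable {K : Type u} [Field K]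

/-- `x₄₇(1)` and `x₃₀(1)` are conjugate. -/
theorem conj_x30 [Finite K] (hK : Nat.card K = 3) :
    ∃ z : ↥(chevF4.group K), z * xc hF (vec chevF4 4 47) (1 : K) * z⁻¹ = xc hF (vec chevF4 4 30) 1 := by
  have := Fintype.ofFinite K
  have : Fact (Nat.Prime 3) := ⟨Nat.prime_three⟩
  have hch : CharP K 3 := charP_of_card_eq_prime (by rw [← Nat.card_eq_fintype_card, hK])
  have h47 : 47 < chevF4.nroots := by decide
  obtain ⟨m, hm, t', ht', e⟩ := Cfsg.Agent.H86.Par.long_conj hF.inList (F := K) Cfsg.Agent.H86.Lev.hpF4 (s := 30)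
    (by decide) longs.1 (t := 1) one_ne_zero
  rw [longs.2.1] at e
  have hmG : m ∈ chevF4.group K := monomial_le_group hF.inList K (Cfsg.Agent.H92.ChevCent.NL_le chevF4 hm)
  obtain ⟨y, hy⟩ := isConj_iff.1 (Cfsg.Agent.H934.IdxExc.isConj hF.inList (F := K) (r := 47) (p := 3) h47 (by decide)
    longs.2.2 1 t' one_ne_zero ht')
  refine ⟨⟨m, hmG⟩⁻¹ * y, ?_⟩
  have e6 : xc hF (vec chevF4 4 47) (1 : K) = Cfsg.Agent.H934.IdxExc.xe hF.inList 47 1 :=
    Subtype.ext (coe_xc hF h47 1)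
  have e7 : (⟨m, hmG⟩ : ↥(chevF4.group K)) * xc hF (vec chevF4 4 30) 1 * ⟨m, hmG⟩⁻¹ =
      Cfsg.Agent.H934.IdxExc.xe hF.inList 47 t' := by
    apply Subtype.ext
    simp only [Subgroup.coe_mul, Subgroup.coe_inv]
    rw [coe_xc hF (by decide)]
    exact e
  rw [e6]
  calc _ = (⟨m, hmG⟩ : ↥(chevF4.group K))⁻¹ * (y * Cfsg.Agent.H934.IdxExc.xe hF.inList 47 1 * y⁻¹) * ⟨m, hmG⟩ := by
        group
    _ = _ := by rw [hy, ← e7]; group

theorem comm_27_28 (h30 : (3 : K) = 0) (c : K) :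
    xc hF (vec chevF4 4 28) c * xc hF (vec chevF4 4 27) 1 =
      xc hF (vec chevF4 4 27) 1 * xc hF (vec chevF4 4 28) c * xc hF (vec chevF4 4 30) c := by
  have e1 := UnipProd.xG_comm hF.inList (r := 27) (s := 28) (F := K) (by decide) (by decide) (by decide) (by decide) 1 c
  have e2 : wordG hF.inList (chevF4.commWord K 27 28 1 c) = xG hF.inList 30 c := by
    unfold ChevalleyDatum.commWord
    rw [ct]
    simp only [List.map_cons, List.map_nil, wordG_cons, wordG_nil, mul_one, pow_one]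
    congr 1
    push_cast
    linear_combination (-c) * h30
  rw [e2] at e1
  apply Subtype.ext
  simp only [Subgroup.coe_mul]
  rw [coe_xc hF (by decide), coe_xc hF (by decide), coe_xc hF (by decide)]
  exact e1

/-- **The dichotomy.** -/
theorem dich_A45 [Finite K] (hK : Nat.card K = 3) {g : ↥(chevF4.group K)} (ht : t2 K ∈ Subgroup.zpowers g) :
    (∃ x, Commute g (x * xc hF (vec chevF4 4 47) (1 : K) * x⁻¹)) ∨
      45 * Nat.card ↥(Subgroup.centralizer {g}) ≤ Nat.card ↥(Subgroup.centralizer {t2 K}) := by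
  have : Finite ↥(chevF4.group K) := inferInstance
  have := Fintype.ofFinite K
  have : Fact (Nat.Prime 3) := ⟨Nat.prime_three⟩
  have hch : CharP K 3 := charP_of_card_eq_prime (by rw [← Nat.card_eq_fintype_card, hK])
  have h2 : (2 : K) ≠ 0 := by
    intro h
    have h3 : 3 ∣ 2 := (CharP.cast_eq_zero_iff K 3 2).1 (by exact_mod_cast h)
    omega
  have h30' : (3 : K) = 0 := by exact_mod_cast CharP.cast_eq_zero K 3
  rcases dich_A hK ht with h | h39
  · exact Or.inl h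
  by_cases hno : ∃ x, Commute g (x * xc hF (vec chevF4 4 47) (1 : K) * x⁻¹)
  · exact Or.inl hno
  refine Or.inr ?_
  have hHC : Subgroup.centralizer {g} ≤ Subgroup.centralizer {t2 K} := by
    intro y hy
    rw [Subgroup.mem_centralizer_singleton_iff] at hy ⊢
    obtain ⟨k, hk⟩ := ht
    have hk : g ^ k = t2 K := hk
    rw [← hk]
    exact (Commute.zpow_right hy k : y * g ^ k = g ^ k * y)
  have := finite_W hF Cfsg.Agent.H557.InvF4.cs
  have R := rgd (K := K) hF Cfsg.Agent.H557.InvF4.cs 3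
  obtain ⟨S, hS⟩ : ∃ S : Set (Fin 4 → ℤ), S = {vec chevF4 4 27, vec chevF4 4 28} := ⟨_, rfl⟩
  have hSc : ∀ c : K, xc hF (vec chevF4 4 27) c ∈ Subgroup.centralizer {t2 K} ∧
      xc hF (vec chevF4 4 28) c ∈ Subgroup.centralizer {t2 K} := by
    intro c
    rw [Subgroup.mem_centralizer_singleton_iff, Subgroup.mem_centralizer_singleton_iff]
    have h1 := (lv.1 0 1 (by decide)).1
    have h3 := (lv.1 0 1 (by decide)).2
    constructor
    · refine (commute_t2 h2 (q := 27) (by decide) ?_ _).symm.eq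
      have : vec chevF4 4 27 3 = 0 := h1
      rw [this]; exact Even.zero
    · refine (commute_t2 h2 (q := 28) (by decide) ?_ _).symm.eq
      have : vec chevF4 4 28 3 = 0 := h3
      rw [this]; exact Even.zero
  obtain ⟨P, hP⟩ : ∃ P : Subgroup ↥(chevF4.group K), P = RGD.Sup (XX chevF4 4 K) S := ⟨_, rfl⟩
  have hP3 : IsPGroup 3 P := by
    rw [hP]
    refine R.isPGroup_of_pos (S := S) ?_
    rw [hS]
    rintro x (rfl | rfl)
    · exact ⟨isRoot_vec hF _ (by decide), nn.1⟩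
    · exact ⟨isRoot_vec hF _ (by decide), nn.2⟩
  have hPC : P ≤ Subgroup.centralizer {t2 K} := by
    rw [hP]
    refine RGD.Sup_le fun x hx => ?_
    rw [hS] at hx
    rcases hx with rfl | rfl
    · intro y hy
      obtain ⟨c, rfl⟩ := (mem_XX hF (by decide) _).1 hy
      exact (hSc c).1
    · intro y hy
      obtain ⟨c, rfl⟩ := (mem_XX hF (by decide) _).1 hy
      exact (hSc c).2
  have ha : xc hF (vec chevF4 4 28) (1 : K) ∈ P := by
    rw [hP]
    exact RGD.le_Sup (X := XX chevF4 4 K) (z := vec chevF4 4 28) (by rw [hS]; exact Or.inr rfl)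
      ((mem_XX hF (by decide) _).2 ⟨1, rfl⟩)
  have hb : xc hF (vec chevF4 4 27) (1 : K) ∈ P := by
    rw [hP]
    exact RGD.le_Sup (X := XX chevF4 4 K) (z := vec chevF4 4 27) (by rw [hS]; exact Or.inl rfl)
      ((mem_XX hF (by decide) _).2 ⟨1, rfl⟩)
  obtain ⟨z, hz⟩ := conj_x30 hK
  obtain ⟨k, hk⟩ := nine_dvd hHC hPC hP3 ha hb (by
    intro x hx
    apply hno
    refine ⟨x * (xc hF (vec chevF4 4 27) (1 : K) * xc hF (vec chevF4 4 28) 1) * z, ?_⟩
    have e : x * (xc hF (vec chevF4 4 27) (1 : K) * xc hF (vec chevF4 4 28) 1) * z * xc hF (vec chevF4 4 47) 1 *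
        (x * (xc hF (vec chevF4 4 27) (1 : K) * xc hF (vec chevF4 4 28) 1) * z)⁻¹ =
        x * (xc hF (vec chevF4 4 28) (1 : K) * xc hF (vec chevF4 4 27) 1 * (xc hF (vec chevF4 4 28) 1)⁻¹ *
          (xc hF (vec chevF4 4 27) 1)⁻¹) * x⁻¹ := by
      rw [comm_27_28 h30' 1, ← hz]
      group
    rw [e]
    rw [Subgroup.mem_centralizer_singleton_iff] at hx
    exact Commute.symm hx)
  have hpos : 0 < Nat.card ↥(Subgroup.centralizer {g}) := Nat.card_pos
  have h5 : 39 ≤ 9 * k := by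
    rw [hk] at h39
    exact Nat.le_of_mul_le_mul_right h39 hpos
  rw [hk]
  exact Nat.mul_le_mul_right _ (by omega)

end

end Cfsg.Agent.H150.F43
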