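import Cfsg.Agent.LieClassical.OrthCore

/-!
# The centralizer of a `2`-element in `O_n(3)`: crude count (helper150, for the `F₄(3)` row of S2465)

* `cent_card_le` : `s ∈ O Q` with `s ^ (2 ^ k) = 1`, `dim ker (s - 1) ≤ 4`, `dim ker (s + 1) ≤ 4`, `dim V = 9`:
  at most `2488492546` elements of `O Q` commute with `s`.
-/

set_option autoImplicit false
set_option linter.unusedSectionVars false

namespace Cfsg.Agent.H150.F43.Dim

open Cfsg.Agent.LieClassical.OrthCore QuadraticMap Module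

variable {K V : Type*} [Field K] [AddCommGroup V] [Module K V] {Q : QuadraticForm K V}

/-- the pointwise stabilizer -/
def Fx (C : Subgroup (V ≃ₗ[K] V)) (X : Submodule K V) : Subgroup (V ≃ₗ[K] V) where
  carrier := {g | g ∈ C ∧ ∀ x ∈ X, g x = x}
  mul_mem' {a b} ha hb := ⟨C.mul_mem ha.1 hb.1, fun x hx => by
    show a (b x) = x
    rw [hb.2 x hx, ha.2 x hx]⟩
  one_mem' := ⟨C.one_mem, fun x _ => rfl⟩
  inv_mem' {a} ha := ⟨C.inv_mem ha.1, fun x hx => by
    have h := ha.2 x hx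
    have h2 : a⁻¹ (a x) = x := LinearEquiv.symm_apply_apply a x
    rw [h] at h2
    exact h2⟩

theorem mem_Fx {C : Subgroup (V ≃ₗ[K] V)} {X : Submodule K V} {g : V ≃ₗ[K] V} :
    g ∈ Fx C X ↔ g ∈ C ∧ ∀ x ∈ X, g x = x := Iff.rfl

/-- nondegeneracy of a subspace -/
def ND (Q : QuadraticForm K V) (X : Submodule K V) : Prop := ∀ x ∈ X, (∀ z ∈ X, polar Q x z = 0) → x = 0

instance finE [Finite V] : Finite (V ≃ₗ[K] V) :=
  Finite.of_injective (fun g : V ≃ₗ[K] V => (g : V → V)) DFunLike.coe_injective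

theorem card_le_orbit [Finite V] (C : Subgroup (V ≃ₗ[K] V)) (v : V) {T : Set V} (hT : ∀ g ∈ C, g v ∈ T)
    {S : Subgroup (V ≃ₗ[K] V)} (hS : ∀ g ∈ C, g v = v → g ∈ S) : Nat.card C ≤ Nat.card T * Nat.card S := by
  have h1 := Nat.card_congr (MulAction.orbitProdStabilizerEquivGroup C v)
  rw [Nat.card_prod] at h1
  rw [← h1]
  refine Nat.mul_le_mul ?_ ?_
  · refine Nat.card_mono (Set.toFinite T) ?_
    rintro _ ⟨g, rfl⟩
    exact hT g.1 g.2
  · refine Nat.card_le_card_of_injective (fun z : MulAction.stabilizer C v => (⟨z.1.1, hS z.1.1 z.1.2 z.2⟩ : S)) ?_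
    intro a b h
    exact Subtype.ext (Subtype.ext (Subtype.mk.inj h))

/-- the bound for `O_n(3)` -/
def o : ℕ → ℕ
  | 0 => 1
  | n + 1 => 3 ^ (n + 1) * o n

/-- the bound for `GU_n(3)` -/
def u : ℕ → ℕ
  | 0 => 1
  | n + 1 => 4 * 9 ^ n * u n

theorem u_mul (a : ℕ) : ∀ b, u a * u b ≤ u (a + b)
  | 0 => by simp [u]
  | b + 1 => by
    have h := u_mul a b
    have h2 : 9 ^ b ≤ 9 ^ (a + b) := Nat.pow_le_pow_right (by norm_num) (by omega)
    calc u a * u (b + 1) = 4 * 9 ^ b * (u a * u b) := by rw [u]; ring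
      _ ≤ 4 * 9 ^ (a + b) * u (a + b) := by gcongr
      _ = u (a + (b + 1)) := by rw [← add_assoc, u]

section

variable [FiniteDimensional K V]

theorem finrank_inf_ker (X : Submodule K V) (φ : V →ₗ[K] K) {v : V} (hv : v ∈ X) (h : φ v ≠ 0) :
    finrank K ↥(X ⊓ LinearMap.ker φ) + 1 = finrank K X := by
  have hv0 : v ≠ 0 := fun h0 => h (by rw [h0, map_zero])
  have h1 := Submodule.finrank_sup_add_finrank_inf_eq (Submodule.span K {v}) (X ⊓ LinearMap.ker φ)
  have h2 : Submodule.span K {v} ⊔ (X ⊓ LinearMap.ker φ) = X := by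
    apply le_antisymm
    · exact sup_le ((Submodule.span_singleton_le_iff_mem _ _).2 hv) inf_le_left
    · intro x hx
      rw [Submodule.mem_sup]
      refine ⟨(φ x / φ v) • v, Submodule.smul_mem _ _ (Submodule.mem_span_singleton_self v),
        x - (φ x / φ v) • v, ⟨X.sub_mem hx (X.smul_mem _ hv), ?_⟩, by abel⟩
      change φ (x - (φ x / φ v) • v) = 0
      rw [map_sub, map_smul, smul_eq_mul, div_mul_cancel₀ _ h, sub_self]
  have h3 : Submodule.span K {v} ⊓ (X ⊓ LinearMap.ker φ) = ⊥ := by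
    rw [eq_bot_iff]
    rintro x ⟨hx, -, hx2⟩
    obtain ⟨c, rfl⟩ := Submodule.mem_span_singleton.1 hx
    have h4 : φ (c • v) = 0 := hx2
    rw [map_smul, smul_eq_mul] at h4
    rw [Submodule.mem_bot, (mul_eq_zero.1 h4).resolve_right h, zero_smul]
  rw [h2, h3, finrank_bot, finrank_span_singleton hv0] at h1
  omega

theorem exists_ne {X : Submodule K V} (hX : ND Q X) (h : X ≠ ⊥) : ∃ v ∈ X, Q v ≠ 0 := by
  by_contra hcon
  push Not at hcon
  apply h
  rw [eq_bot_iff]
  intro x hx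
  rw [Submodule.mem_bot]
  refine hX x hx fun z hz => ?_
  rw [polar, hcon _ (X.add_mem hx hz), hcon _ hx, hcon _ hz]
  ring

end

section

variable [Finite V] [FiniteDimensional K V]

theorem stepO (hK : Nat.card K = 3) (h2 : (2 : K) ≠ 0) : ∀ (n : ℕ) (C : Subgroup (V ≃ₗ[K] V)) (X : Submodule K V),
    finrank K X = n → C ≤ O Q → (∀ g ∈ C, ∀ x ∈ X, g x ∈ X) → ND Q X → Nat.card C ≤ o n * Nat.card (Fx C X)
  | 0, C, X, hn, hC, hCX, hX => by
    rw [Submodule.finrank_eq_zero] at hn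
    rw [o, one_mul]
    refine Nat.card_mono (Set.toFinite _) ?_
    intro g hg
    refine ⟨hg, fun x hx => ?_⟩
    rw [hn, Submodule.mem_bot] at hx
    rw [hx, map_zero]
  | n + 1, C, X, hn, hC, hCX, hX => by
    have hX0 : X ≠ ⊥ := by
      rintro rfl
      rw [finrank_bot] at hn
      omega
    obtain ⟨v, hv, hQv⟩ := exists_ne hX hX0
    have hvv : polarBilin Q v v ≠ 0 := by
      rw [polarBilin_apply_apply, polar_self']
      exact mul_ne_zero h2 hQv
    obtain ⟨X', hX'⟩ : ∃ X', X' = X ⊓ LinearMap.ker (polarBilin Q v) := ⟨_, rfl⟩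
    have hf : finrank K X' = n := by
      have := finrank_inf_ker X (polarBilin Q v) hv hvv
      rw [← hX', hn] at this
      omega
    have mX' : ∀ x, x ∈ X' ↔ x ∈ X ∧ polar Q v x = 0 := by
      intro x
      rw [hX', Submodule.mem_inf, LinearMap.mem_ker, polarBilin_apply_apply]
    have hdec : ∀ z ∈ X, ∃ c : K, z - c • v ∈ X' := by
      intro z hz
      refine ⟨polarBilin Q v z / polarBilin Q v v, ?_⟩
      rw [hX', Submodule.mem_inf, LinearMap.mem_ker, map_sub, map_smul, smul_eq_mul, div_mul_cancel₀ _ hvv, sub_self]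
      exact ⟨X.sub_mem hz (X.smul_mem _ hv), rfl⟩
    have hcomp : ∀ x ∈ X', ∀ z ∈ X, (∀ w ∈ X', polar Q x w = 0) → polar Q x z = 0 := by
      intro x hx z hz h
      obtain ⟨c, hc⟩ := hdec z hz
      have h1 := h _ hc
      have h3 : polar Q x v = 0 := by rw [QuadraticMap.polar_comm]; exact ((mX' x).1 hx).2
      rw [sub_eq_add_neg, ← neg_smul, QuadraticMap.polar_add_right, QuadraticMap.polar_smul_right, h3, smul_zero,
        add_zero] at h1
      exact h1
    obtain ⟨C', hC'⟩ : ∃ C', C' = Fx C (Submodule.span K {v}) := ⟨_, rfl⟩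
    have hC'v : ∀ g ∈ C', g ∈ C ∧ g v = v := by
      intro g hg
      rw [hC'] at hg
      exact ⟨hg.1, hg.2 v (Submodule.mem_span_singleton_self v)⟩
    have h1 : Nat.card C ≤ Nat.card (X : Set V) * Nat.card C' := by
      refine card_le_orbit C v (fun g hg => hCX g hg v hv) fun g hg hgv => ?_
      rw [hC']
      refine ⟨hg, fun x hx => ?_⟩
      obtain ⟨c, rfl⟩ := Submodule.mem_span_singleton.1 hx
      rw [map_smul, hgv]
    have h3 : Nat.card (X : Set V) = 3 ^ (n + 1) := by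
      have : Nat.card X = Nat.card K ^ finrank K X := Module.natCard_eq_pow_finrank
      rw [hK, hn] at this
      exact this
    have h4 := stepO hK h2 n C' X' hf (fun g hg => hC (hC'v g hg).1) (fun g hg x hx => by
        rw [mX'] at hx ⊢
        refine ⟨hCX g (hC'v g hg).1 x hx.1, ?_⟩
        have h5 := polar_map (hC (hC'v g hg).1) v x
        rw [(hC'v g hg).2, hx.2] at h5
        exact h5)
      (fun x hx h => hX x ((mX' x).1 hx).1 fun z hz => hcomp x hx z hz h)
    have h5 : Nat.card (Fx C' X') ≤ Nat.card (Fx C X) := by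
      refine Nat.card_mono (Set.toFinite _) ?_
      rintro g ⟨hg, hg'⟩
      refine ⟨(hC'v g hg).1, fun z hz => ?_⟩
      obtain ⟨c, hc⟩ := hdec z hz
      have h6 := hg' _ hc
      rw [map_sub, map_smul, (hC'v g hg).2] at h6
      exact sub_left_injective h6
    calc Nat.card C ≤ 3 ^ (n + 1) * Nat.card C' := by rw [← h3]; exact h1
      _ ≤ 3 ^ (n + 1) * (o n * Nat.card (Fx C' X')) := Nat.mul_le_mul_left _ h4
      _ ≤ 3 ^ (n + 1) * (o n * Nat.card (Fx C X)) := by gcongr
      _ = o (n + 1) * Nat.card (Fx C X) := by rw [o]; ring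

theorem zmod_count : ∀ d : ZMod 3, (Finset.univ.filter fun p : ZMod 3 × ZMod 3 => p.1 * p.1 + p.2 * p.2 = d).card ≤ 4 := by
  decide

theorem count (hK : Nat.card K = 3) (d : K) : Nat.card {p : K × K // p.1 * p.1 + p.2 * p.2 = d} ≤ 4 := by
  have : Finite K := Nat.finite_of_card_ne_zero (by rw [hK]; norm_num)
  have := Fintype.ofFinite K
  have : Fact (Nat.Prime 3) := ⟨Nat.prime_three⟩
  obtain ⟨σ, -⟩ : ∃ σ : ZMod 3 ≃+* K, True := ⟨ZMod.ringEquivOfPrime K Nat.prime_three (by
    rw [← Nat.card_eq_fintype_card, hK]), trivial⟩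
  refine le_trans ?_ (zmod_count (σ.symm d))
  rw [← Fintype.card_subtype, ← Nat.card_eq_fintype_card]
  refine Nat.card_le_card_of_injective (fun p : {p : K × K // p.1 * p.1 + p.2 * p.2 = d} =>
    (⟨(σ.symm p.1.1, σ.symm p.1.2), by simp only; rw [← map_mul, ← map_mul, ← map_add, p.2]⟩ :
      {p : ZMod 3 × ZMod 3 // p.1 * p.1 + p.2 * p.2 = σ.symm d})) ?_
  rintro ⟨⟨a, b⟩, h⟩ ⟨⟨a', b'⟩, h'⟩ e
  have e1 := Subtype.mk.inj e
  rw [Prod.mk.injEq] at e1
  have e2 : a = a' := σ.symm.injective e1.1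
  have e3 : b = b' := σ.symm.injective e1.2
  subst e2 e3
  rfl

theorem stepU (hK : Nat.card K = 3) (h2 : (2 : K) ≠ 0) (y : V →ₗ[K] V) : ∀ (n : ℕ) (C : Subgroup (V ≃ₗ[K] V))
    (X : Submodule K V), finrank K X ≤ n → C ≤ O Q → (∀ g ∈ C, ∀ x ∈ X, g x ∈ X) → ND Q X →
    (∀ x ∈ X, y x ∈ X) → (∀ x ∈ X, y (y x) = -x) → (∀ x ∈ X, Q (y x) = Q x) →
    (∀ g ∈ C, ∀ x ∈ X, g (y x) = y (g x)) →
    ∃ m, finrank K X = 2 * m ∧ Nat.card C ≤ u m * Nat.card (Fx C X)
  | 0, C, X, hn, hC, hCX, hX, yX, y2, yQ, yC => by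
    have hn' : finrank K X = 0 := by omega
    refine ⟨0, hn', ?_⟩
    rw [Submodule.finrank_eq_zero] at hn'
    rw [u, one_mul]
    refine Nat.card_mono (Set.toFinite _) ?_
    intro g hg
    refine ⟨hg, fun x hx => ?_⟩
    rw [hn', Submodule.mem_bot] at hx
    rw [hx, map_zero]
  | n + 1, C, X, hn, hC, hCX, hX, yX, y2, yQ, yC => by
    by_cases hX0 : X = ⊥
    · refine ⟨0, by rw [hX0, finrank_bot], ?_⟩
      rw [u, one_mul]
      refine Nat.card_mono (Set.toFinite _) ?_
      intro g hg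
      refine ⟨hg, fun x hx => ?_⟩
      rw [hX0, Submodule.mem_bot] at hx
      rw [hx, map_zero]
    obtain ⟨v, hv, hQv⟩ := exists_ne hX hX0
    have ypol : ∀ a ∈ X, ∀ b ∈ X, polar Q (y a) (y b) = polar Q a b := by
      intro a ha b hb
      rw [polar, polar, ← map_add, yQ _ (X.add_mem ha hb), yQ _ ha, yQ _ hb]
    have hvy : polar Q v (y v) = 0 := by
      have h1 := ypol v hv (y v) (yX v hv)
      rw [y2 v hv, ← neg_one_smul K v, QuadraticMap.polar_smul_right, QuadraticMap.polar_comm, smul_eq_mul] at h1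
      have h3 : 2 * polar Q v (y v) = 0 := by linear_combination -h1
      exact (mul_eq_zero.1 h3).resolve_left h2
    have hvv : polarBilin Q v v ≠ 0 := by
      rw [polarBilin_apply_apply, polar_self']
      exact mul_ne_zero h2 hQv
    have hyy : polarBilin Q (y v) (y v) ≠ 0 := by
      rw [polarBilin_apply_apply, polar_self', yQ v hv]
      exact mul_ne_zero h2 hQv
    obtain ⟨X', hX'⟩ : ∃ X', X' = (X ⊓ LinearMap.ker (polarBilin Q v)) ⊓ LinearMap.ker (polarBilin Q (y v)) := ⟨_, rfl⟩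
    have hf : finrank K X' + 2 = finrank K X := by
      have h1 := finrank_inf_ker X (polarBilin Q v) hv hvv
      have h3 := finrank_inf_ker (X ⊓ LinearMap.ker (polarBilin Q v)) (polarBilin Q (y v)) (v := y v)
        ⟨yX v hv, by change polarBilin Q v (y v) = 0; rw [polarBilin_apply_apply, hvy]⟩ hyy
      rw [← hX'] at h3
      omega
    have mX' : ∀ x, x ∈ X' ↔ x ∈ X ∧ polar Q v x = 0 ∧ polar Q (y v) x = 0 := by
      intro x
      rw [hX', Submodule.mem_inf, Submodule.mem_inf, LinearMap.mem_ker, LinearMap.mem_ker, polarBilin_apply_apply,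
        polarBilin_apply_apply, and_assoc]
    have hdec : ∀ z ∈ X, ∃ a b : K, z - (a • v + b • y v) ∈ X' := by
      intro z hz
      refine ⟨polarBilin Q v z / polarBilin Q v v, polarBilin Q (y v) z / polarBilin Q (y v) (y v), ?_⟩
      rw [mX']
      refine ⟨X.sub_mem hz (X.add_mem (X.smul_mem _ hv) (X.smul_mem _ (yX v hv))), ?_, ?_⟩
      · rw [← polarBilin_apply_apply, map_sub, map_add, map_smul, map_smul, smul_eq_mul, smul_eq_mul,
          div_mul_cancel₀ _ hvv, polarBilin_apply_apply (Q := Q) v (y v), hvy, mul_zero, add_zero, sub_self]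
      · rw [← polarBilin_apply_apply, map_sub, map_add, map_smul, map_smul, smul_eq_mul, smul_eq_mul,
          div_mul_cancel₀ _ hyy, polarBilin_apply_apply (Q := Q) (y v) v, QuadraticMap.polar_comm, hvy, mul_zero,
          zero_add, sub_self]
    choose! fa fb hfab using hdec
    have hcomp : ∀ x ∈ X', ∀ z ∈ X, (∀ w ∈ X', polar Q x w = 0) → polar Q x z = 0 := by
      intro x hx z hz h
      have h1 := h _ (hfab z hz)
      have h3 : polar Q x v = 0 := by rw [QuadraticMap.polar_comm]; exact ((mX' x).1 hx).2.1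
      have h4 : polar Q x (y v) = 0 := by rw [QuadraticMap.polar_comm]; exact ((mX' x).1 hx).2.2
      rw [← polarBilin_apply_apply] at h1 h3 h4 ⊢
      rw [map_sub, map_add, map_smul, map_smul, h3, h4, smul_zero, smul_zero, add_zero, sub_zero] at h1
      exact h1
    obtain ⟨C', hC'⟩ : ∃ C', C' = Fx C (Submodule.span K {v}) := ⟨_, rfl⟩
    have hC'v : ∀ g ∈ C', g ∈ C ∧ g v = v ∧ g (y v) = y v := by
      intro g hg
      rw [hC'] at hg
      have h1 := hg.2 v (Submodule.mem_span_singleton_self v)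
      exact ⟨hg.1, h1, by rw [yC g hg.1 v hv, h1]⟩
    have h1 : Nat.card C ≤ Nat.card {w | w ∈ X ∧ Q w = Q v} * Nat.card C' := by
      refine card_le_orbit C v (T := {w | w ∈ X ∧ Q w = Q v}) (fun g hg => ⟨hCX g hg v hv, hC hg v⟩) fun g hg hgv => ?_
      rw [hC']
      refine ⟨hg, fun x hx => ?_⟩
      obtain ⟨c, rfl⟩ := Submodule.mem_span_singleton.1 hx
      rw [map_smul, hgv]
    have h3 : Nat.card {w | w ∈ X ∧ Q w = Q v} ≤ 4 * Nat.card X' := by
      have key : ∀ w ∈ X, Q w = Q (w - (fa w • v + fb w • y v)) + (fa w * fa w + fb w * fb w) * Q v := by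
        intro w hw
        have e1 : w = (w - (fa w • v + fb w • y v)) + (fa w • v + fb w • y v) := by abel
        have e2 : polar Q (w - (fa w • v + fb w • y v)) (fa w • v + fb w • y v) = 0 := by
          have e3 := (mX' _).1 (hfab w hw)
          have e4 : polar Q (w - (fa w • v + fb w • y v)) v = 0 := by rw [QuadraticMap.polar_comm]; exact e3.2.1
          have e5 : polar Q (w - (fa w • v + fb w • y v)) (y v) = 0 := by
            rw [QuadraticMap.polar_comm]; exact e3.2.2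
          rw [QuadraticMap.polar_add_right, QuadraticMap.polar_smul_right, QuadraticMap.polar_smul_right, e4, e5,
            smul_zero, smul_zero, add_zero]
        have e3 : Q (fa w • v + fb w • y v) = (fa w * fa w + fb w * fb w) * Q v := by
          rw [Q_add, QuadraticMap.map_smul, QuadraticMap.map_smul, yQ v hv, QuadraticMap.polar_smul_left,
            QuadraticMap.polar_smul_right, hvy]
          simp only [smul_eq_mul]
          ring
        conv_lhs => rw [e1]
        rw [Q_add, e2, e3, add_zero]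
      have : Finite K := Nat.finite_of_card_ne_zero (by rw [hK]; norm_num)
      have hinj : Nat.card {w | w ∈ X ∧ Q w = Q v} ≤
          Nat.card {z : X' × (K × K) // z.2.1 * z.2.1 + z.2.2 * z.2.2 = (Q v - Q (z.1 : V)) / Q v} := by
        refine Nat.card_le_card_of_injective (fun w : {w | w ∈ X ∧ Q w = Q v} =>
          (⟨(⟨w.1 - (fa w.1 • v + fb w.1 • y v), hfab w.1 w.2.1⟩, (fa w.1, fb w.1)), by
            simp only
            rw [eq_div_iff hQv]
            have := key w.1 w.2.1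
            rw [w.2.2] at this
            linear_combination -this⟩ :
            {z : X' × (K × K) // z.2.1 * z.2.1 + z.2.2 * z.2.2 = (Q v - Q (z.1 : V)) / Q v})) ?_
        rintro ⟨w, hw⟩ ⟨w', hw'⟩ e
        have e1 := Subtype.mk.inj e
        rw [Prod.mk.injEq, Prod.mk.injEq] at e1
        obtain ⟨e2, e3, e4⟩ := e1
        have e5 := congrArg Subtype.val e2
        simp only at e3 e4 e5
        rw [e3, e4] at e5
        exact Subtype.ext (sub_left_injective e5)
      refine hinj.trans ?_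
      have : Fintype X' := Fintype.ofFinite _
      rw [Nat.card_congr (Equiv.subtypeProdEquivSigmaSubtype (fun (a : X') (b : K × K) =>
        b.1 * b.1 + b.2 * b.2 = (Q v - Q (a : V)) / Q v)), Nat.card_sigma]
      calc _ ≤ ∑ _a : X', 4 := Finset.sum_le_sum fun a _ => count hK _
        _ = 4 * Nat.card X' := by
          rw [Finset.sum_const, Finset.card_univ, smul_eq_mul, mul_comm, Nat.card_eq_fintype_card]
    obtain ⟨m, hm, h4⟩ := stepU hK h2 y n C' X' (by omega) (fun g hg => hC (hC'v g hg).1) (fun g hg x hx => by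
        rw [mX'] at hx ⊢
        refine ⟨hCX g (hC'v g hg).1 x hx.1, ?_, ?_⟩
        · have h5 := polar_map (hC (hC'v g hg).1) v x
          rw [(hC'v g hg).2.1, hx.2.1] at h5
          exact h5
        · have h5 := polar_map (hC (hC'v g hg).1) (y v) x
          rw [(hC'v g hg).2.2, hx.2.2] at h5
          exact h5)
      (fun x hx h => hX x ((mX' x).1 hx).1 fun z hz => hcomp x hx z hz h)
      (fun x hx => by
        rw [mX'] at hx ⊢
        refine ⟨yX x hx.1, ?_, ?_⟩
        · have h5 := ypol (y v) (yX v hv) x hx.1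
          rw [y2 v hv, hx.2.2, ← polarBilin_apply_apply, map_neg, LinearMap.neg_apply, neg_eq_zero] at h5
          exact h5
        · rw [ypol v hv x hx.1, hx.2.1])
      (fun x hx => y2 x ((mX' x).1 hx).1) (fun x hx => yQ x ((mX' x).1 hx).1)
      (fun g hg x hx => yC g (hC'v g hg).1 x ((mX' x).1 hx).1)
    have h5 : Nat.card (Fx C' X') ≤ Nat.card (Fx C X) := by
      refine Nat.card_mono (Set.toFinite _) ?_
      rintro g ⟨hg, hg'⟩
      refine ⟨(hC'v g hg).1, fun z hz => ?_⟩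
      have h6 := hg' _ (hfab z hz)
      rw [map_sub, map_add, map_smul, map_smul, (hC'v g hg).2.1, (hC'v g hg).2.2] at h6
      exact sub_left_injective h6
    have h6 : Nat.card X' = 9 ^ m := by
      have : Nat.card X' = Nat.card K ^ finrank K X' := Module.natCard_eq_pow_finrank
      rw [this, hK, hm, pow_mul]
      norm_num
    rw [h6] at h3
    refine ⟨m + 1, by omega, ?_⟩
    calc Nat.card C ≤ (4 * 9 ^ m) * Nat.card C' := h1.trans (Nat.mul_le_mul_right _ h3)
      _ ≤ (4 * 9 ^ m) * (u m * Nat.card (Fx C' X')) := Nat.mul_le_mul_left _ h4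
      _ ≤ (4 * 9 ^ m) * (u m * Nat.card (Fx C X)) := by gcongr
      _ = u (m + 1) * Nat.card (Fx C X) := by rw [u]; ring

end

/-! ### The `2`-element -/

/-- the fixed space -/
def Ep (t : V ≃ₗ[K] V) : Submodule K V := LinearMap.ker (t.toLinearMap - LinearMap.id)

/-- the `(-1)`-space -/
def Em (t : V ≃ₗ[K] V) : Submodule K V := LinearMap.ker (t.toLinearMap + LinearMap.id)

theorem mem_Ep {t : V ≃ₗ[K] V} {x : V} : x ∈ Ep t ↔ t x = x := by
  rw [Ep, LinearMap.mem_ker, LinearMap.sub_apply, sub_eq_zero]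
  rfl

theorem mem_Em {t : V ≃ₗ[K] V} {x : V} : x ∈ Em t ↔ t x = -x := by
  rw [Em, LinearMap.mem_ker, LinearMap.add_apply, add_eq_zero_iff_eq_neg]
  rfl

section

variable [Finite V] [FiniteDimensional K V]

theorem split (h2 : (2 : K) ≠ 0) {t : V ≃ₗ[K] V} (ht : t ∈ O Q) (hX : ND Q (Ep (t * t))) :
    ND Q (Ep t) ∧ ND Q (Em t) ∧ finrank K (Ep (t * t)) = finrank K (Ep t) + finrank K (Em t) ∧
      ∀ C : Subgroup (V ≃ₗ[K] V), Fx (Fx C (Ep t)) (Em t) ≤ Fx C (Ep (t * t)) := by
  have horth : ∀ x ∈ Ep t, ∀ z ∈ Em t, polar Q x z = 0 := by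
    intro x hx z hz
    rw [mem_Ep] at hx
    rw [mem_Em] at hz
    have h1 := polar_map ht x z
    rw [hx, hz, ← neg_one_smul K z, QuadraticMap.polar_smul_right, smul_eq_mul] at h1
    have h3 : 2 * polar Q x z = 0 := by linear_combination -h1
    exact (mul_eq_zero.1 h3).resolve_left h2
  have hp : Ep t ≤ Ep (t * t) := fun x hx => by
    rw [mem_Ep] at hx ⊢
    rw [LinearEquiv.mul_apply, hx, hx]
  have hm : Em t ≤ Ep (t * t) := fun x hx => by
    rw [mem_Em] at hx
    rw [mem_Ep, LinearEquiv.mul_apply, hx, map_neg, hx, neg_neg]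
  have hdec : ∀ z ∈ Ep (t * t), ∃ x ∈ Ep t, ∃ w ∈ Em t, z = x + w := by
    intro z hz
    rw [mem_Ep, LinearEquiv.mul_apply] at hz
    refine ⟨(2 : K)⁻¹ • (z + t z), ?_, (2 : K)⁻¹ • (z - t z), ?_, ?_⟩
    · rw [mem_Ep, map_smul, map_add, hz, add_comm]
    · rw [mem_Em, map_smul, map_sub, hz, ← smul_neg, neg_sub]
    · rw [← smul_add, add_add_sub_cancel, ← two_smul K z, smul_smul, inv_mul_cancel₀ h2, one_smul]
  refine ⟨?_, ?_, ?_, ?_⟩
  · intro x hx h
    refine hX x (hp hx) fun z hz => ?_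
    obtain ⟨a, ha, w, hw, rfl⟩ := hdec z hz
    rw [QuadraticMap.polar_add_right, h a ha, horth x hx w hw, add_zero]
  · intro x hx h
    refine hX x (hm hx) fun z hz => ?_
    obtain ⟨a, ha, w, hw, rfl⟩ := hdec z hz
    rw [QuadraticMap.polar_add_right, h w hw, QuadraticMap.polar_comm, horth a ha x hx, add_zero]
  · have h1 := Submodule.finrank_sup_add_finrank_inf_eq (Ep t) (Em t)
    have h3 : Ep t ⊔ Em t = Ep (t * t) := by
      refine le_antisymm (sup_le hp hm) fun z hz => ?_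
      obtain ⟨a, ha, w, hw, rfl⟩ := hdec z hz
      exact Submodule.add_mem_sup ha hw
    have h4 : Ep t ⊓ Em t = ⊥ := by
      rw [eq_bot_iff]
      rintro x ⟨hx, hx'⟩
      have hx : t x = x := mem_Ep.1 hx
      have hx' : t x = -x := mem_Em.1 hx'
      rw [Submodule.mem_bot]
      have h5 : (2 : K) • x = 0 := by
        rw [two_smul]
        nth_rw 1 [← hx]
        rw [hx', neg_add_cancel]
      exact (smul_eq_zero.1 h5).resolve_left h2
    rw [h3, h4, finrank_bot, add_zero] at h1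
    exact h1
  · rintro C g ⟨⟨hg, hg1⟩, hg2⟩
    refine ⟨hg, fun z hz => ?_⟩
    obtain ⟨a, ha, w, hw, rfl⟩ := hdec z hz
    rw [map_add, hg1 a ha, hg2 w hw]

theorem main (hK : Nat.card K = 3) (h2 : (2 : K) ≠ 0) {s : V ≃ₗ[K] V} (hs : s ∈ O Q) {C : Subgroup (V ≃ₗ[K] V)}
    (hC : C ≤ O Q) (hcom : ∀ g ∈ C, Commute g s) : ∀ k : ℕ, ND Q (Ep (s ^ (2 ^ (k + 1)))) →
    ∃ m, finrank K (Ep (s ^ (2 ^ (k + 1)))) = finrank K (Ep s) + finrank K (Em s) + 2 * m ∧
      Nat.card C ≤ o (finrank K (Ep s)) * o (finrank K (Em s)) * u m * Nat.card (Fx C (Ep (s ^ (2 ^ (k + 1)))))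
  | 0, hX => by
    have e : s ^ (2 ^ (0 + 1)) = s * s := by rw [zero_add, pow_one, pow_two]
    rw [e] at hX ⊢
    obtain ⟨h3, h4, h5, h6⟩ := split h2 hs hX
    refine ⟨0, by rw [h5, mul_zero, add_zero], ?_⟩
    have h7 := stepO hK h2 _ C (Ep s) rfl hC (fun g hg x hx => by
      rw [mem_Ep] at hx ⊢
      have := congrArg (fun f : V ≃ₗ[K] V => f x) (hcom g hg).eq
      simp only [LinearEquiv.mul_apply] at this
      rw [← this, hx]) h3
    have h8 := stepO hK h2 _ (Fx C (Ep s)) (Em s) rfl (fun g hg => hC hg.1) (fun g hg x hx => by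
      rw [mem_Em] at hx ⊢
      have := congrArg (fun f : V ≃ₗ[K] V => f x) (hcom g hg.1).eq
      simp only [LinearEquiv.mul_apply] at this
      rw [← this, hx, map_neg]) h4
    have h9 := Nat.card_mono (Set.toFinite _) (h6 C)
    have h9' : Nat.card (Fx (Fx C (Ep s)) (Em s)) ≤ Nat.card (Fx C (Ep (s * s))) := h9
    calc Nat.card C ≤ o (finrank K (Ep s)) * Nat.card (Fx C (Ep s)) := h7
      _ ≤ o (finrank K (Ep s)) * (o (finrank K (Em s)) * Nat.card (Fx (Fx C (Ep s)) (Em s))) := by gcongr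
      _ ≤ o (finrank K (Ep s)) * (o (finrank K (Em s)) * Nat.card (Fx C (Ep (s * s)))) := by gcongr
      _ = _ := by rw [u]; ring
  | k + 1, hX => by
    obtain ⟨t, ht⟩ : ∃ t, t = s ^ (2 ^ (k + 1)) := ⟨_, rfl⟩
    obtain ⟨y, hy⟩ : ∃ y, y = s ^ (2 ^ k) := ⟨_, rfl⟩
    have e : s ^ (2 ^ (k + 1 + 1)) = t * t := by rw [ht, ← pow_add, ← two_mul, ← pow_succ']
    have ey : t = y * y := by rw [ht, hy, ← pow_add, ← two_mul, ← pow_succ']
    have htO : t ∈ O Q := by rw [ht]; exact (O Q).pow_mem hs _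
    have hyO : y ∈ O Q := by rw [hy]; exact (O Q).pow_mem hs _
    rw [e] at hX ⊢
    obtain ⟨h3, h4, h5, h6⟩ := split h2 htO hX
    obtain ⟨m, hm, h7⟩ := main hK h2 hs hC hcom k (by rw [← ht]; exact h3)
    rw [← ht] at hm h7
    have hct : ∀ g ∈ C, ∀ x, g (t x) = t (g x) := fun g hg x => by
      have h8 : Commute g t := by rw [ht]; exact (hcom g hg).pow_right _
      exact congrArg (fun f : V ≃ₗ[K] V => f x) h8.eq
    have hcy : ∀ g ∈ C, ∀ x, g (y x) = y (g x) := fun g hg x => by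
      have h8 : Commute g y := by rw [hy]; exact (hcom g hg).pow_right _
      exact congrArg (fun f : V ≃ₗ[K] V => f x) h8.eq
    obtain ⟨m', hm', h8⟩ := stepU hK h2 y.toLinearMap _ (Fx C (Ep t)) (Em t) le_rfl (fun g hg => hC hg.1)
      (fun g hg x hx => by
        rw [mem_Em] at hx ⊢
        rw [← hct g hg.1, hx, map_neg]) h4
      (fun x hx => by
        rw [mem_Em] at hx ⊢
        have h9 : t (y x) = y (t x) := by rw [ey]; rfl
        change t (y x) = -(y x)
        rw [h9, hx, map_neg])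
      (fun x hx => by
        rw [mem_Em, ey] at hx
        exact hx)
      (fun x hx => hyO x)
      (fun g hg x hx => hcy g hg.1 x)
    have h9 : Nat.card (Fx (Fx C (Ep t)) (Em t)) ≤ Nat.card (Fx C (Ep (t * t))) :=
      Nat.card_mono (Set.toFinite _) (h6 C)
    refine ⟨m + m', by rw [h5, hm, hm']; ring, ?_⟩
    calc Nat.card C ≤ o (finrank K (Ep s)) * o (finrank K (Em s)) * u m * Nat.card (Fx C (Ep t)) := h7
      _ ≤ o (finrank K (Ep s)) * o (finrank K (Em s)) * u m * (u m' * Nat.card (Fx (Fx C (Ep t)) (Em t))) := by gcongr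
      _ ≤ o (finrank K (Ep s)) * o (finrank K (Em s)) * u m * (u m' * Nat.card (Fx C (Ep (t * t)))) := by gcongr
      _ = o (finrank K (Ep s)) * o (finrank K (Em s)) * (u m * u m') * Nat.card (Fx C (Ep (t * t))) := by ring
      _ ≤ _ := by gcongr; exact u_mul m m'

end

/-- **The count.** -/
theorem cent_card_le [FiniteDimensional K V] (hK : Nat.card K = 3) (hQ : Nondeg Q) (hV : finrank K V = 9) {s : V ≃ₗ[K] V} (hs : s ∈ O Q)
    {k : ℕ} (hsk : s ^ (2 ^ k) = 1) (h1 : finrank K (LinearMap.ker (s.toLinearMap - LinearMap.id)) ≤ 4)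
    (h1' : finrank K (LinearMap.ker (s.toLinearMap + LinearMap.id)) ≤ 4) :
    Nat.card {g : V ≃ₗ[K] V // g ∈ O Q ∧ g * s = s * g} ≤ 2488492546 := by
  have : Finite K := Nat.finite_of_card_ne_zero (by rw [hK]; norm_num)
  have : Finite V := Module.finite_of_finite K
  have h2 : (2 : K) ≠ 0 := by
    have := Fintype.ofFinite K
    have : Fact (Nat.Prime 3) := ⟨Nat.prime_three⟩
    have hch : CharP K 3 := charP_of_card_eq_prime (by rw [← Nat.card_eq_fintype_card, hK])
    intro h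
    have h3 : 3 ∣ 2 := (CharP.cast_eq_zero_iff K 3 2).1 (by exact_mod_cast h)
    omega
  obtain ⟨C, hC⟩ : ∃ C : Subgroup (V ≃ₗ[K] V), C = O Q ⊓ Subgroup.centralizer {s} := ⟨_, rfl⟩
  have hCs : ∀ g, g ∈ C ↔ g ∈ O Q ∧ g * s = s * g := by
    intro g
    rw [hC, Subgroup.mem_inf, Subgroup.mem_centralizer_singleton_iff]
  have e1 : s ^ (2 ^ (k + 1)) = 1 := by rw [pow_succ, pow_mul, hsk, one_pow]
  have htop : Ep (1 : V ≃ₗ[K] V) = ⊤ := by
    rw [eq_top_iff]
    intro x _
    rw [mem_Ep]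
    rfl
  obtain ⟨m, hm, h3⟩ := main hK h2 hs (C := C) (fun g hg => ((hCs g).1 hg).1) (fun g hg => ((hCs g).1 hg).2) k (by
    rw [e1, htop]
    intro x _ h
    exact hQ x fun y => h y Submodule.mem_top)
  rw [e1, htop] at hm h3
  rw [finrank_top, hV] at hm
  have h4 : Nat.card (Fx C ⊤) = 1 := by
    rw [Nat.card_eq_one_iff_unique]
    refine ⟨⟨fun a b => ?_⟩, ⟨1⟩⟩
    apply Subtype.ext
    apply LinearEquiv.ext
    intro x
    rw [a.2.2 x Submodule.mem_top, b.2.2 x Submodule.mem_top]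
  rw [h4, mul_one] at h3
  have h5 : Nat.card {g : V ≃ₗ[K] V // g ∈ O Q ∧ g * s = s * g} = Nat.card C :=
    Nat.card_congr (Equiv.subtypeEquivRight fun g => (hCs g).symm)
  rw [h5]
  refine h3.trans ?_
  have ha : finrank K (Ep s) ≤ 4 := h1
  have hb : finrank K (Em s) ≤ 4 := h1'
  revert hm ha hb
  generalize finrank K (Ep s) = a
  generalize finrank K (Em s) = b
  intro hm ha hb
  have hm' : m = (9 - a - b) / 2 := by omega
  subst hm'
  interval_cases a <;> interval_cases b <;> first | omega | (simp only [o, u]; norm_num)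

end Cfsg.Agent.H150.F43.Dim
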