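import Cfsg.Agent.H700.F43.Mod
import Cfsg.Agent.H874.F43.U4

/-!
# `F₄(3)` (S2465), block E: transitivity of `Sp₆(3)`, the swap of `α₂` and `θ` (helper150, for helper98)

* `exists_mulVec` : `Sp₆(3)` is transitive on the nonzero vectors;
* `exists_swap` : an element exchanging the root groups of `25` and `47`.
-/

set_option autoImplicit false

namespace Cfsg.Agent.H150.F43.Swap

open Cfsg.Agent.H700.F43
open Matrix

theorem exists_sym {b : Fin 3 → F3} (hb : b ≠ 0) (w : Fin 3 → F3) :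
    ∃ T : Matrix (Fin 3) (Fin 3) F3, Tᵀ = T ∧ T *ᵥ b = w := by
  obtain ⟨i, hi⟩ : ∃ i, b i ≠ 0 := by
    by_contra h
    push Not at h
    exact hb (funext h)
  obtain ⟨u, hu⟩ : ∃ u : Fin 3 → F3, u ⬝ᵥ b = 1 := ⟨Pi.single i (b i)⁻¹, by
    rw [single_dotProduct, inv_mul_cancel₀ hi]⟩
  refine ⟨vecMulVec w u + vecMulVec u w - (w ⬝ᵥ b) • vecMulVec u u, ?_, ?_⟩
  · rw [transpose_sub, transpose_add, transpose_smul, transpose_vecMulVec, transpose_vecMulVec, transpose_vecMulVec,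
      add_comm]
  · rw [sub_mulVec, add_mulVec, smul_mulVec, vecMulVec_mulVec, vecMulVec_mulVec, vecMulVec_mulVec, hu]
    simp

theorem uu_mulVec {T : Matrix (Fin 3) (Fin 3) F3} (hT : Tᵀ = T) (a b : Fin 3 → F3) :
    (uu T hT).1 *ᵥ Sum.elim a b = Sum.elim (a + T *ᵥ b) b := by
  change Matrix.fromBlocks 1 T 0 1 *ᵥ Sum.elim a b = _
  rw [fromBlocks_mulVec]
  simp

theorem vv_mulVec {S : Matrix (Fin 3) (Fin 3) F3} (hS : Sᵀ = S) (a b : Fin 3 → F3) :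
    (vv S hS).1 *ᵥ Sum.elim a b = Sum.elim a (S *ᵥ a + b) := by
  change Matrix.fromBlocks 1 0 S 1 *ᵥ Sum.elim a b = _
  rw [fromBlocks_mulVec]
  simp

theorem exists_to {e : Fin 3 → F3} (he : e ≠ 0) (v : V6) (hv : v ≠ 0) : ∃ A : Sp, A.1 *ᵥ v = Sum.elim e 0 := by
  have key : ∀ a b : Fin 3 → F3, b ≠ 0 → ∃ A : Sp, A.1 *ᵥ Sum.elim a b = Sum.elim e 0 := by
    intro a b hb
    obtain ⟨T, hT, h1⟩ := exists_sym hb (e - a)
    obtain ⟨S, hS, h2⟩ := exists_sym he (-b)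
    refine ⟨vv S hS * uu T hT, ?_⟩
    rw [Submonoid.coe_mul, ← mulVec_mulVec, uu_mulVec, h1, add_sub_cancel, vv_mulVec, h2, neg_add_cancel]
  obtain ⟨a, b, rfl⟩ : ∃ a b, v = Sum.elim a b := ⟨v ∘ Sum.inl, v ∘ Sum.inr, (Sum.elim_comp_inl_inr v).symm⟩
  by_cases hb : b = 0
  · have ha : a ≠ 0 := by
      rintro rfl
      apply hv
      rw [hb]
      funext i
      rcases i with i | i <;> rfl
    obtain ⟨S, hS, h1⟩ := exists_sym ha e
    obtain ⟨A, hA⟩ := key a (e + b) (by rw [hb, add_zero]; exact he)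
    refine ⟨A * vv S hS, ?_⟩
    rw [Submonoid.coe_mul, ← mulVec_mulVec, vv_mulVec, h1, hA]
  · exact key a b hb

/-- `Sp₆(3)` is transitive on the nonzero vectors. -/
theorem exists_mulVec (v w : V6) (hv : v ≠ 0) (hw : w ≠ 0) : ∃ A : Sp, A.1 *ᵥ v = w := by
  have he : (Pi.single 2 1 : Fin 3 → F3) ≠ 0 := by decide
  obtain ⟨A, hA⟩ := exists_to he v hv
  obtain ⟨B, hB⟩ := exists_to he w hw
  refine ⟨B⁻¹ * A, ?_⟩
  rw [Submonoid.coe_mul, ← mulVec_mulVec, hA, ← hB, mulVec_mulVec, ← Submonoid.coe_mul, inv_mul_cancel]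
  exact one_mulVec w

/-! ### The swap -/

section

open Cfsg.Lie Cfsg.Agent.ChevalleyStructure Cfsg.Agent.ChevalleyStructure.Elts
  Cfsg.Agent.ChevalleyStructure.CoxeterGeom Cfsg.Agent.ChevalleyStructure.CoxeterGeomTypes
  Cfsg.Agent.Nodes.RGDChev Cfsg.Agent.KFacts.RgdChevCoord Cfsg.Agent.H537.Pw
  Cfsg.Agent.TitsThree.KExcRT Cfsg.Agent.H78.Pw
  Cfsg.Agent.Nodes.KindChev Cfsg.Agent.Nodes.ChevCls Cfsg.Agent.OddHalf.NI.ModelChev
  Cfsg.Agent.Tits.Roots Cfsg.Agent.Tits.Core Cfsg.Agent.H874.F43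

universe u

variable {K : Type u} [Field K]

/-- the permutation matrix of `(0 3)(1 2)` -/
def P4 (K : Type u) [Field K] : SpecialLinearGroup (Fin 4) K :=
  ⟨!![0, 0, 0, 1; 0, 0, 1, 0; 0, 1, 0, 0; 1, 0, 0, 0], by
    simp [det_succ_row_zero, Fin.sum_univ_succ, Fin.succAbove]
    ring⟩

theorem P4_10 (c : K) : P4 K * SpecialLinearGroup.transvection (show (1 : Fin 4) ≠ 0 by decide) c * (P4 K)⁻¹ =
    SpecialLinearGroup.transvection (show (2 : Fin 4) ≠ 3 by decide) c := by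
  rw [mul_inv_eq_iff_eq_mul]
  apply Subtype.ext
  change !![0, 0, 0, 1; 0, 0, 1, 0; 0, 1, 0, 0; 1, 0, 0, 0] * (1 + single 1 0 c) =
    (1 + single 2 3 c) * !![0, 0, 0, 1; 0, 0, 1, 0; 0, 1, 0, 0; 1, 0, 0, 0]
  ext i j
  fin_cases i <;> fin_cases j <;> simp [Matrix.mul_apply, Fin.sum_univ_succ, Matrix.single, Matrix.one_apply]

theorem P4_23 (c : K) : P4 K * SpecialLinearGroup.transvection (show (2 : Fin 4) ≠ 3 by decide) c * (P4 K)⁻¹ =
    SpecialLinearGroup.transvection (show (1 : Fin 4) ≠ 0 by decide) c := by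
  rw [mul_inv_eq_iff_eq_mul]
  apply Subtype.ext
  change !![0, 0, 0, 1; 0, 0, 1, 0; 0, 1, 0, 0; 1, 0, 0, 0] * (1 + single 2 3 c) =
    (1 + single 1 0 c) * !![0, 0, 0, 1; 0, 0, 1, 0; 0, 1, 0, 0; 1, 0, 0, 0]
  ext i j
  fin_cases i <;> fin_cases j <;> simp [Matrix.mul_apply, Fin.sum_univ_succ, Matrix.single, Matrix.one_apply]

/-- exact form -/
theorem exists_swap_eq : ∃ n : ↥(chevF4.group K),
    (∀ c : K, n * xc isType_F4 (vec chevF4 4 25) c * n⁻¹ = xc isType_F4 (vec chevF4 4 47) c) ∧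
    (∀ c : K, n * xc isType_F4 (vec chevF4 4 47) c * n⁻¹ = xc isType_F4 (vec chevF4 4 25) c) := by
  have e25 : ∀ c : K, xc isType_F4 (vec chevF4 4 25) c =
      pi4 K (SpecialLinearGroup.transvection (show (2 : Fin 4) ≠ 3 by decide) c) := fun c => (pi4_tv K 2 3 _ c).symm
  have e47 : ∀ c : K, xc isType_F4 (vec chevF4 4 47) c =
      pi4 K (SpecialLinearGroup.transvection (show (1 : Fin 4) ≠ 0 by decide) c) := fun c => (pi4_tv K 1 0 _ c).symm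
  refine ⟨pi4 K (P4 K), fun c => ?_, fun c => ?_⟩
  · rw [e25, e47, ← map_mul, ← map_inv, ← map_mul, P4_23]
  · rw [e25, e47, ← map_mul, ← map_inv, ← map_mul, P4_10]

/-- **The swap.** -/
theorem exists_swap : ∃ n : ↥(chevF4.group K),
    (∀ c : K, n * xc isType_F4 (vec chevF4 4 25) c * n⁻¹ ∈ XX chevF4 4 K (vec chevF4 4 47)) ∧
    (∀ c : K, n * xc isType_F4 (vec chevF4 4 47) c * n⁻¹ ∈ XX chevF4 4 K (vec chevF4 4 25)) := by
  obtain ⟨n, h1, h2⟩ := exists_swap_eq (K := K)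
  refine ⟨n, fun c => ?_, fun c => ?_⟩
  · rw [h1]; exact (mem_XX isType_F4 (by decide) _).2 ⟨c, rfl⟩
  · rw [h2]; exact (mem_XX isType_F4 (by decide) _).2 ⟨c, rfl⟩

end

end Cfsg.Agent.H150.F43.Swap
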